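import Cfsg.Agent.Lib.Helper4.NilPow
import Cfsg.Agent.S0164

set_option autoImplicit false

open Module Representation
open scoped ComplexConjugate

namespace Cfsg.Agent.Lib.Helper4

section GenChar

variable {G : Type*} [Group G] [Fintype G]

/-- The inner product of a generalized character with an irreducible character is an integer. -/
theorem classInner_genChar_int (θ : G → ℂ) (hθ : IsGeneralizedCharacter G θ)
    (χ : IrrCharacter G) : ∃ z : ℤ, classInner θ (χ : G → ℂ) = z := by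
  have hfin : Finite (IrrCharacter G) := irr_finite
  let _ : Fintype (IrrCharacter G) := Fintype.ofFinite _
  obtain ⟨φ, ψ, hφ, hψ, rfl⟩ := hθ
  obtain ⟨k, hk⟩ := classInner_isCharacter_nat φ hφ χ
  obtain ⟨l, hl⟩ := classInner_isCharacter_nat ψ hψ χ
  refine ⟨(k : ℤ) - l, ?_⟩
  rw [← innerL_apply, map_sub, innerL_apply, innerL_apply, hk, hl]
  push_cast
  rfl

theorem isClassFunction_of_genChar (θ : G → ℂ) (hθ : IsGeneralizedCharacter G θ) :
    IsClassFunction G θ := by
  obtain ⟨φ, ψ, hφ, hψ, rfl⟩ := hθ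
  intro g h
  simp only [Pi.sub_apply]
  rw [isClassFunction_of_isCharacter φ hφ g h, isClassFunction_of_isCharacter ψ hψ g h]

/-- A generalized character of norm one with positive degree is irreducible. -/
theorem isIrrCharacter_of_genChar_norm_one (θ : G → ℂ) (hθ : IsGeneralizedCharacter G θ)
    (h1 : classInner θ θ = 1) (hpos : ∃ k : ℕ, 0 < k ∧ θ 1 = k) : IsIrrCharacter G θ := by
  classical
  have hfin : Finite (IrrCharacter G) := irr_finite
  let _ : Fintype (IrrCharacter G) := Fintype.ofFinite _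
  have hcf : IsClassFunction G θ := isClassFunction_of_genChar θ hθ
  choose z hz using classInner_genChar_int θ hθ
  have hexp : θ = ∑ χ : IrrCharacter G, (z χ : ℂ) • (χ : G → ℂ) := by
    have h := classFunction_expansion θ hcf
    simp only [hz] at h
    exact h
  have h2 : classInner θ θ = ∑ χ : IrrCharacter G, (z χ : ℂ) * conj (z χ : ℂ) := by
    conv_lhs => rw [hexp]
    exact classInner_sum_sum_irr _ _
  rw [h1] at h2
  have h3 : ∑ χ : IrrCharacter G, z χ * z χ = 1 := by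
    have : ((∑ χ : IrrCharacter G, z χ * z χ : ℤ) : ℂ) = 1 := by
      rw [h2]; push_cast; simp
    exact_mod_cast this
  obtain ⟨χ₀, hχ₀⟩ : ∃ χ₀, z χ₀ ≠ 0 := by
    by_contra hcon
    push Not at hcon
    simp [hcon] at h3
  have h5 : ∀ χ, χ ≠ χ₀ → z χ = 0 := by
    intro χ hne
    by_contra hzχ
    have hle : z χ₀ * z χ₀ + z χ * z χ ≤ ∑ χ : IrrCharacter G, z χ * z χ := by
      have := Finset.sum_le_sum_of_subset_of_nonneg (f := fun χ => z χ * z χ)
        (Finset.subset_univ ({χ₀, χ} : Finset (IrrCharacter G)))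
        (fun i _ _ => mul_self_nonneg _)
      rwa [Finset.sum_pair hne.symm] at this
    have h6 : 0 < z χ₀ * z χ₀ := mul_self_pos.mpr hχ₀
    have h7 : 0 < z χ * z χ := mul_self_pos.mpr hzχ
    omega
  have h6 : z χ₀ * z χ₀ = 1 := by
    have : ∑ χ : IrrCharacter G, z χ * z χ = z χ₀ * z χ₀ := by
      apply Finset.sum_eq_single χ₀
      · intro b _ hb; rw [h5 b hb]; rfl
      · intro h; exact absurd (Finset.mem_univ _) h
    rw [this] at h3
    exact h3
  have h7 : θ = (z χ₀ : ℂ) • (χ₀ : G → ℂ) := by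
    conv_lhs => rw [hexp]
    rw [Finset.sum_eq_single χ₀]
    · intro b _ hb; rw [h5 b hb]; simp
    · intro h; exact absurd (Finset.mem_univ _) h
  obtain ⟨k, hk, hk1⟩ := hpos
  obtain ⟨d, hd, hd1⟩ := irr_one_nat χ₀
  have h8 : (k : ℂ) = (z χ₀ : ℂ) * d := by
    rw [← hk1, ← hd1]
    conv_lhs => rw [h7]
    rfl
  have h9 : (k : ℤ) = z χ₀ * d := by exact_mod_cast h8
  have h10 : z χ₀ = 1 := by
    rcases mul_self_eq_one_iff.mp h6 with h | h
    · exact h
    · exfalso
      rw [h] at h9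
      have : (0 : ℤ) < k := by exact_mod_cast hk
      have : (0 : ℤ) < d := by exact_mod_cast hd
      omega
  rw [h7, h10]
  simp only [Int.cast_one, one_smul]
  exact χ₀.2

end GenChar

section BrauerSuzuki

variable {G : Type*} [Group G] [Fintype G] (H : Subgroup G) [Fintype H] {m n a : ℕ}

omit [Fintype G] [Fintype H] in
theorem tilde_isConj (hfus : ∀ x ∈ H, ∀ y ∈ H, IsConj x y → ∃ h ∈ H, h * x * h⁻¹ = y)
    (σ : G → H) (hσ : ∀ x : G, IsConj (x ^ a) (σ x : G))
    (x : G) (y : H) (hy : IsConj (x ^ a) (y : G)) : IsConj (σ x) y := by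
  obtain ⟨h, hh, hxy⟩ := hfus (σ x) (σ x).2 y y.2 ((hσ x).symm.trans hy)
  exact isConj_iff.mpr ⟨⟨h, hh⟩, Subtype.ext hxy⟩

omit [Fintype G] [Fintype H] in
theorem tilde_eq (hfus : ∀ x ∈ H, ∀ y ∈ H, IsConj x y → ∃ h ∈ H, h * x * h⁻¹ = y)
    (σ : G → H) (hσ : ∀ x : G, IsConj (x ^ a) (σ x : G)) (f : H → ℂ)
    (hf : IsClassFunction H f) (x : G) (y : H) (hy : IsConj (x ^ a) (y : G)) :
    f (σ x) = f y := by
  obtain ⟨c, hc⟩ := isConj_iff.mp (tilde_isConj H hfus σ hσ x y hy)
  rw [← hc, hf]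

omit [Fintype G] [Fintype H] in
theorem tilde_classFunction (hfus : ∀ x ∈ H, ∀ y ∈ H, IsConj x y → ∃ h ∈ H, h * x * h⁻¹ = y)
    (σ : G → H) (hσ : ∀ x : G, IsConj (x ^ a) (σ x : G)) (f : H → ℂ)
    (hf : IsClassFunction H f) : IsClassFunction G (fun x => f (σ x)) := by
  intro x t
  apply tilde_eq H hfus σ hσ f hf
  rw [conj_pow]
  exact (isConj_iff.mpr ⟨t, rfl⟩ : IsConj (x ^ a) (t * x ^ a * t⁻¹)).symm.trans (hσ x)

omit [Fintype G] [Fintype H] in
theorem pow_eq_self_of_mem (hn : Nat.card H = n) (han : a ≡ 1 [MOD n]) (h : H) :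
    (h : G) ^ a = h := by
  apply pow_eq_self_of_modEq _ han
  rw [← hn, Subgroup.orderOf_coe]
  exact orderOf_dvd_natCard h

omit [Fintype G] [Fintype H] in
theorem tilde_on (hn : Nat.card H = n) (han : a ≡ 1 [MOD n])
    (hfus : ∀ x ∈ H, ∀ y ∈ H, IsConj x y → ∃ h ∈ H, h * x * h⁻¹ = y)
    (σ : G → H) (hσ : ∀ x : G, IsConj (x ^ a) (σ x : G)) (f : H → ℂ)
    (hf : IsClassFunction H f) (h : H) : f (σ (h : G)) = f h := by
  apply tilde_eq H hfus σ hσ f hf
  rw [pow_eq_self_of_mem H hn han h]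

omit [Fintype H] in
theorem tilde_restrict_isCharacter (hmn : Nat.card G = m * n) (hcop : Nat.Coprime m n)
    (ham : a ≡ 0 [MOD m]) (han : a ≡ 1 [MOD n])
    (hfus : ∀ x ∈ H, ∀ y ∈ H, IsConj x y → ∃ h ∈ H, h * x * h⁻¹ = y)
    (σ : G → H) (hσ : ∀ x : G, IsConj (x ^ a) (σ x : G))
    (E : Subgroup G) [Group.IsNilpotent E] (t : G) (ht : ∀ e : E, t * (e : G) ^ a * t⁻¹ ∈ H)
    (φ : H → ℂ) (hφ : IsCharacter H φ) : IsCharacter E (fun e : E => φ (σ (e : G))) := by
  let ψ : E →* H :=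
    { toFun := fun e => ⟨t * (e : G) ^ a * t⁻¹, ht e⟩
      map_one' := by
        apply Subtype.ext
        simp
      map_mul' := by
        intro e e'
        apply Subtype.ext
        have h1 := congrArg Subtype.val (pow_mul_of_modEq hmn hcop ham han E e e')
        simp only [Subgroup.coe_mul, Subgroup.coe_pow] at h1 ⊢
        rw [h1]
        group }
  have h2 : (fun e : E => φ (σ (e : G))) = fun e => φ (ψ e) := by
    funext e
    apply tilde_eq H hfus σ hσ φ (isClassFunction_of_isCharacter φ hφ)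
    exact isConj_iff.mpr ⟨t, rfl⟩
  rw [h2]
  exact isCharacter_comp ψ φ hφ

omit [Fintype H] in
theorem exists_conj_into (hmn : Nat.card G = m * n) (hn : Nat.card H = n)
    (hcop : Nat.Coprime m n) (ham : a ≡ 0 [MOD m]) (han : a ≡ 1 [MOD n])
    (helem : ∀ (E : Subgroup G) (p : ℕ), p.Prime → IsElementary p E →
      Nat.card E ∣ Nat.card H → ∃ g : G, E.map (MulAut.conj g).toMonoidHom ≤ H)
    (E : Subgroup G) (p : ℕ) (hp : p.Prime) (hE : IsElementary p E) [Group.IsNilpotent E] :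
    ∃ t : G, ∀ e : E, t * (e : G) ^ a * t⁻¹ ∈ H := by
  let τ := powHom hmn hcop ham han E
  have hB'el : IsElementary p (τ.range.map E.subtype) :=
    isElementary_of_equiv (τ.range.equivMapOfInjective E.subtype E.subtype_injective)
      (isElementary_subgroup hp hE τ.range)
  have hcard : Nat.card (τ.range.map E.subtype) ∣ Nat.card H := by
    rw [hn, ← Nat.card_congr
      (τ.range.equivMapOfInjective E.subtype E.subtype_injective).toEquiv]
    exact card_range_powHom_dvd hmn hcop ham han E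
  obtain ⟨t, ht⟩ := helem _ p hp hB'el hcard
  refine ⟨t, fun e => ?_⟩
  apply ht
  refine ⟨(e : G) ^ a, ⟨τ e, ⟨e, rfl⟩, rfl⟩, ?_⟩
  simp [MulAut.conj_apply]

omit [Fintype H] in
theorem tilde_isGenChar (hmn : Nat.card G = m * n) (hn : Nat.card H = n)
    (hcop : Nat.Coprime m n) (ham : a ≡ 0 [MOD m]) (han : a ≡ 1 [MOD n])
    (hfus : ∀ x ∈ H, ∀ y ∈ H, IsConj x y → ∃ h ∈ H, h * x * h⁻¹ = y)
    (helem : ∀ (E : Subgroup G) (p : ℕ), p.Prime → IsElementary p E →
      Nat.card E ∣ Nat.card H → ∃ g : G, E.map (MulAut.conj g).toMonoidHom ≤ H)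
    (σ : G → H) (hσ : ∀ x : G, IsConj (x ^ a) (σ x : G))
    (φ : H → ℂ) (hφ : IsCharacter H φ) : IsGeneralizedCharacter G (fun x => φ (σ x)) := by
  apply Cfsg.Agent.S0164.result _
    (tilde_classFunction H hfus σ hσ φ (isClassFunction_of_isCharacter φ hφ))
  intro E p hp hE
  have hnil : Group.IsNilpotent E := isNilpotent_of_isElementary hp hE
  obtain ⟨t, ht⟩ := exists_conj_into H hmn hn hcop ham han helem E p hp hE
  have h1 := tilde_restrict_isCharacter H hmn hcop ham han hfus σ hσ E t ht φ hφ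
  exact ⟨_, 0, h1, isCharacter_zero, by simp⟩

open Classical in
/-- The weighted count of the elements of `G` whose `n`-part is conjugate to `y`. -/
noncomputable def dcount (σ : G → H) (y : H) : ℕ :=
  ∑ x : G, if IsConj (σ x) y then Nat.card (Subgroup.centralizer ({σ x} : Set H)) else 0

open Classical in
omit [Fintype G] in
theorem sum_isConj_card (z : H) :
    ∑ y : H, (if IsConj z y then Nat.card (Subgroup.centralizer ({z} : Set H)) else 0) =
      Nat.card H := by
  have h1 := card_conj_class_mul z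
  have h2 : ((Finset.univ.filter (fun x : H => IsConj x z)).card *
      Nat.card (Subgroup.centralizer ({z} : Set H)) : ℕ) = Nat.card H := by
    exact_mod_cast h1
  rw [← h2, ← Finset.sum_filter, Finset.sum_const, smul_eq_mul]
  congr 2
  ext y
  simp only [Finset.mem_filter, Finset.mem_univ, true_and]
  exact isConj_comm

theorem sum_dcount (σ : G → H) : ∑ y : H, dcount H σ y = Nat.card G * Nat.card H := by
  classical
  unfold dcount
  rw [Finset.sum_comm]
  rw [Finset.sum_congr rfl (fun x _ => sum_isConj_card H (σ x))]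
  rw [Finset.sum_const, Finset.card_univ, smul_eq_mul, ← Nat.card_eq_fintype_card]

theorem dcount_cast [Fintype (IrrCharacter H)] (σ : G → H) (y : H) :
    (dcount H σ y : ℂ) = (Nat.card G : ℂ) * ∑ φ : IrrCharacter H,
      conj ((φ : H → ℂ) y) * classInner (fun x => (φ : H → ℂ) (σ x)) (fun _ : G => (1 : ℂ)) := by
  classical
  have hG : (Nat.card G : ℂ) ≠ 0 := card_ne_zero_complex
  unfold dcount
  push_cast
  have h1 : ∀ x : G, (if IsConj (σ x) y then
      (Nat.card (Subgroup.centralizer ({σ x} : Set H)) : ℂ) else 0) =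
      ∑ φ : IrrCharacter H, (φ : H → ℂ) (σ x) * conj ((φ : H → ℂ) y) := by
    intro x
    refine Eq.trans ?_ (col_orth (σ x) y).symm
    split_ifs <;> rfl
  rw [Finset.sum_congr rfl (fun x _ => h1 x), Finset.sum_comm, Finset.mul_sum]
  refine Finset.sum_congr rfl fun φ _ => ?_
  simp only [classInner, map_one, mul_one]
  rw [← Finset.sum_mul]
  field_simp

theorem card_dvd_dcount (hmn : Nat.card G = m * n) (hn : Nat.card H = n)
    (hcop : Nat.Coprime m n) (ham : a ≡ 0 [MOD m]) (han : a ≡ 1 [MOD n])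
    (hfus : ∀ x ∈ H, ∀ y ∈ H, IsConj x y → ∃ h ∈ H, h * x * h⁻¹ = y)
    (helem : ∀ (E : Subgroup G) (p : ℕ), p.Prime → IsElementary p E →
      Nat.card E ∣ Nat.card H → ∃ g : G, E.map (MulAut.conj g).toMonoidHom ≤ H)
    (σ : G → H) (hσ : ∀ x : G, IsConj (x ^ a) (σ x : G)) (y : H) :
    Nat.card G ∣ dcount H σ y := by
  classical
  have hfin : Finite (IrrCharacter H) := irr_finite
  let _ : Fintype (IrrCharacter H) := Fintype.ofFinite _
  have hG : (Nat.card G : ℂ) ≠ 0 := card_ne_zero_complex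
  apply dvd_of_isIntegral_div _ _ (Nat.card_pos (α := G)).ne'
  rw [dcount_cast H σ y, mul_div_assoc, mul_comm, div_mul_cancel₀ _ hG]
  refine IsIntegral.sum _ fun φ _ => ?_
  refine IsIntegral.mul (map_isIntegral_int (starRingEnd ℂ) (irr_isIntegral φ y)) ?_
  have hgc := tilde_isGenChar H hmn hn hcop ham han hfus helem σ hσ (φ : H → ℂ)
    (isCharacter_of_irr φ)
  obtain ⟨z, hz⟩ := classInner_genChar_int _ hgc (trivIrr : IrrCharacter G)
  have h2 : classInner (fun x => (φ : H → ℂ) (σ x)) (fun _ : G => (1 : ℂ)) = z := hz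
  rw [h2]
  exact isIntegral_algebraMap (R := ℤ) (A := ℂ) (x := z)

theorem dcount_pos (hn : Nat.card H = n) (han : a ≡ 1 [MOD n])
    (hfus : ∀ x ∈ H, ∀ y ∈ H, IsConj x y → ∃ h ∈ H, h * x * h⁻¹ = y)
    (σ : G → H) (hσ : ∀ x : G, IsConj (x ^ a) (σ x : G)) (y : H) : 0 < dcount H σ y := by
  classical
  unfold dcount
  have h1 : IsConj (σ (y : G)) y := by
    apply tilde_isConj H hfus σ hσ
    rw [pow_eq_self_of_mem H hn han y]
  have h2 := Finset.single_le_sum (f := fun x : G => if IsConj (σ x) y then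
      Nat.card (Subgroup.centralizer ({σ x} : Set H)) else 0)
    (fun i _ => Nat.zero_le _) (Finset.mem_univ (y : G))
  simp only [if_pos h1] at h2
  exact lt_of_lt_of_le Nat.card_pos h2

theorem dcount_eq (hmn : Nat.card G = m * n) (hn : Nat.card H = n)
    (hcop : Nat.Coprime m n) (ham : a ≡ 0 [MOD m]) (han : a ≡ 1 [MOD n])
    (hfus : ∀ x ∈ H, ∀ y ∈ H, IsConj x y → ∃ h ∈ H, h * x * h⁻¹ = y)
    (helem : ∀ (E : Subgroup G) (p : ℕ), p.Prime → IsElementary p E →
      Nat.card E ∣ Nat.card H → ∃ g : G, E.map (MulAut.conj g).toMonoidHom ≤ H)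
    (σ : G → H) (hσ : ∀ x : G, IsConj (x ^ a) (σ x : G)) (y : H) :
    dcount H σ y = Nat.card G := by
  classical
  have hle : ∀ y ∈ (Finset.univ : Finset H), Nat.card G ≤ dcount H σ y := fun y _ =>
    Nat.le_of_dvd (dcount_pos H hn han hfus σ hσ y)
      (card_dvd_dcount H hmn hn hcop ham han hfus helem σ hσ y)
  have hsum : ∑ y : H, Nat.card G = ∑ y : H, dcount H σ y := by
    rw [sum_dcount, Finset.sum_const, Finset.card_univ, smul_eq_mul, Nat.card_eq_fintype_card,
      Nat.card_eq_fintype_card, mul_comm]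
  exact ((Finset.sum_eq_sum_iff_of_le hle).mp hsum y (Finset.mem_univ y)).symm

/-- Averaging identity. -/
theorem sum_tilde (hmn : Nat.card G = m * n) (hn : Nat.card H = n)
    (hcop : Nat.Coprime m n) (ham : a ≡ 0 [MOD m]) (han : a ≡ 1 [MOD n])
    (hfus : ∀ x ∈ H, ∀ y ∈ H, IsConj x y → ∃ h ∈ H, h * x * h⁻¹ = y)
    (helem : ∀ (E : Subgroup G) (p : ℕ), p.Prime → IsElementary p E →
      Nat.card E ∣ Nat.card H → ∃ g : G, E.map (MulAut.conj g).toMonoidHom ≤ H)
    (σ : G → H) (hσ : ∀ x : G, IsConj (x ^ a) (σ x : G)) (F : H → ℂ)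
    (hF : IsClassFunction H F) :
    (∑ x : G, F (σ x)) * (Nat.card H : ℂ) = (Nat.card G : ℂ) * ∑ y : H, F y := by
  classical
  have h1 : ∑ y : H, F y * (dcount H σ y : ℂ) = (Nat.card G : ℂ) * ∑ y : H, F y := by
    rw [Finset.mul_sum]
    refine Finset.sum_congr rfl fun y _ => ?_
    rw [dcount_eq H hmn hn hcop ham han hfus helem σ hσ y, mul_comm]
  rw [← h1]
  unfold dcount
  push_cast
  simp only [Finset.mul_sum]
  rw [Finset.sum_comm, Finset.sum_mul]
  refine Finset.sum_congr rfl fun x _ => ?_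
  have h2 : ∀ y : H, F y * (if IsConj (σ x) y then
      (Nat.card (Subgroup.centralizer ({σ x} : Set H)) : ℂ) else 0) =
      F (σ x) * (((if IsConj (σ x) y then
        Nat.card (Subgroup.centralizer ({σ x} : Set H)) else 0 : ℕ) : ℂ)) := by
    intro y
    by_cases h : IsConj (σ x) y
    · obtain ⟨c, hc⟩ := isConj_iff.mp h
      rw [if_pos h, if_pos h, ← hc, hF]
    · rw [if_neg h, if_neg h]
      simp
  rw [Finset.sum_congr rfl (fun y _ => h2 y), ← Finset.mul_sum, ← Nat.cast_sum,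
    sum_isConj_card]

theorem tilde_norm [Fintype (IrrCharacter H)] (hmn : Nat.card G = m * n) (hn : Nat.card H = n)
    (hcop : Nat.Coprime m n) (ham : a ≡ 0 [MOD m]) (han : a ≡ 1 [MOD n])
    (hfus : ∀ x ∈ H, ∀ y ∈ H, IsConj x y → ∃ h ∈ H, h * x * h⁻¹ = y)
    (helem : ∀ (E : Subgroup G) (p : ℕ), p.Prime → IsElementary p E →
      Nat.card E ∣ Nat.card H → ∃ g : G, E.map (MulAut.conj g).toMonoidHom ≤ H)
    (σ : G → H) (hσ : ∀ x : G, IsConj (x ^ a) (σ x : G)) (φ : IrrCharacter H) :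
    classInner (fun x => (φ : H → ℂ) (σ x)) (fun x => (φ : H → ℂ) (σ x)) = 1 := by
  have hG : (Nat.card G : ℂ) ≠ 0 := card_ne_zero_complex
  have hH : (Nat.card H : ℂ) ≠ 0 := card_ne_zero_complex
  have hF : IsClassFunction H (fun y => (φ : H → ℂ) y * conj ((φ : H → ℂ) y)) := by
    intro y c
    show (φ : H → ℂ) (c * y * c⁻¹) * conj ((φ : H → ℂ) (c * y * c⁻¹)) = _
    rw [isClassFunction_irr φ y c]
  have h1 := sum_tilde H hmn hn hcop ham han hfus helem σ hσ _ hF
  have h2 : classInner (φ : H → ℂ) (φ : H → ℂ) = 1 := by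
    rw [classInner_irr, if_pos rfl]
  simp only [classInner] at h2 ⊢
  have h3 : ∑ y : H, (φ : H → ℂ) y * conj ((φ : H → ℂ) y) = (Nat.card H : ℂ) := by
    field_simp at h2
    exact h2
  rw [h3] at h1
  have h4 : ∑ x : G, (φ : H → ℂ) (σ x) * conj ((φ : H → ℂ) (σ x)) = (Nat.card G : ℂ) :=
    mul_right_cancel₀ hH h1
  rw [h4]
  field_simp

theorem tilde_isIrr (hmn : Nat.card G = m * n) (hn : Nat.card H = n)
    (hcop : Nat.Coprime m n) (ham : a ≡ 0 [MOD m]) (han : a ≡ 1 [MOD n])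
    (hfus : ∀ x ∈ H, ∀ y ∈ H, IsConj x y → ∃ h ∈ H, h * x * h⁻¹ = y)
    (helem : ∀ (E : Subgroup G) (p : ℕ), p.Prime → IsElementary p E →
      Nat.card E ∣ Nat.card H → ∃ g : G, E.map (MulAut.conj g).toMonoidHom ≤ H)
    (σ : G → H) (hσ : ∀ x : G, IsConj (x ^ a) (σ x : G)) (φ : IrrCharacter H) :
    IsIrrCharacter G (fun x => (φ : H → ℂ) (σ x)) := by
  classical
  have hfin : Finite (IrrCharacter H) := irr_finite
  let _ : Fintype (IrrCharacter H) := Fintype.ofFinite _
  apply isIrrCharacter_of_genChar_norm_one _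
    (tilde_isGenChar H hmn hn hcop ham han hfus helem σ hσ (φ : H → ℂ) (isCharacter_of_irr φ))
    (tilde_norm H hmn hn hcop ham han hfus helem σ hσ φ)
  obtain ⟨d, hd, hd1⟩ := irr_one_nat φ
  refine ⟨d, hd, ?_⟩
  show (φ : H → ℂ) (σ 1) = d
  rw [← hd1]
  exact tilde_on H hn han hfus σ hσ (φ : H → ℂ) (isClassFunction_irr φ) 1

/-- The Brauer–Suzuki normal complement theorem, with the conjugation map `σ` given. -/
theorem brauer_suzuki_aux (hmn : Nat.card G = m * n) (hn : Nat.card H = n)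
    (hcop : Nat.Coprime m n) (ham : a ≡ 0 [MOD m]) (han : a ≡ 1 [MOD n])
    (hfus : ∀ x ∈ H, ∀ y ∈ H, IsConj x y → ∃ h ∈ H, h * x * h⁻¹ = y)
    (helem : ∀ (E : Subgroup G) (p : ℕ), p.Prime → IsElementary p E →
      Nat.card E ∣ Nat.card H → ∃ g : G, E.map (MulAut.conj g).toMonoidHom ≤ H)
    (σ : G → H) (hσ : ∀ x : G, IsConj (x ^ a) (σ x : G)) :
    ∃ K : Subgroup G, K.Normal ∧ K ⊔ H = ⊤ ∧ K ⊓ H = ⊥ := by
  classical
  have hfin : Finite (IrrCharacter H) := irr_finite
  let _ : Fintype (IrrCharacter H) := Fintype.ofFinite _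
  choose k ρ hρirr hρchar using fun φ : IrrCharacter H =>
    tilde_isIrr H hmn hn hcop ham han hfus helem σ hσ φ
  let K : Subgroup G := ⨅ φ : IrrCharacter H, (ρ φ).ker
  have hKn : K.Normal := Subgroup.normal_iInf_normal fun φ => MonoidHom.normal_ker _
  have hmemK : ∀ x : G, x ∈ K ↔ ∀ φ : IrrCharacter H, ρ φ x = 1 := by
    intro x
    simp only [K, Subgroup.mem_iInf, MonoidHom.mem_ker]
  have hchar : ∀ (φ : IrrCharacter H) (x : G), (ρ φ).character x = (φ : H → ℂ) (σ x) :=
    fun φ x => congrFun (hρchar φ) x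
  have hσ1 : ∀ φ : IrrCharacter H, (φ : H → ℂ) (σ 1) = (φ : H → ℂ) 1 := fun φ =>
    tilde_on H hn han hfus σ hσ (φ : H → ℂ) (isClassFunction_irr φ) 1
  -- K ⊓ H = ⊥
  have hinf : K ⊓ H = ⊥ := by
    rw [eq_bot_iff]
    rintro x ⟨hxK, hxH⟩
    rw [Subgroup.mem_bot]
    have h1 : ∀ φ : IrrCharacter H, (φ : H → ℂ) ⟨x, hxH⟩ = (φ : H → ℂ) 1 := by
      intro φ
      have h2 : (ρ φ).character x = (ρ φ).character 1 := by
        rw [Representation.character, Representation.character, (hmemK x).mp hxK φ,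
          MonoidHom.map_one (ρ φ)]
      rw [hchar, hchar, hσ1] at h2
      rw [← h2]
      exact (tilde_on H hn han hfus σ hσ (φ : H → ℂ) (isClassFunction_irr φ) ⟨x, hxH⟩).symm
    have h3 : IsConj (⟨x, hxH⟩ : H) 1 := (isConj_iff_irr _ _).mpr h1
    have h4 : (⟨x, hxH⟩ : H) = 1 := isConj_one_left.mp h3
    exact congrArg Subtype.val h4
  -- the elements with trivial n-part lie in K
  have hsub : ∀ x : G, σ x = 1 → x ∈ K := by
    intro x hx
    rw [hmemK]
    intro φ
    have h1 : (ρ φ).character x = (finrank ℂ (Fin (k φ) → ℂ) : ℂ) := by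
      rw [hchar, hx, ← Representation.char_one (ρ φ), hchar, hσ1]
    exact (char_eq_finrank_iff (ρ φ) x).mp h1
  -- counting them
  have hcount : (Finset.univ.filter (fun x : G => σ x = 1)).card * n = m * n := by
    have h1 := dcount_eq H hmn hn hcop ham han hfus helem σ hσ 1
    unfold dcount at h1
    have h2 : ∀ x : G, (if IsConj (σ x) 1 then
        Nat.card (Subgroup.centralizer ({σ x} : Set H)) else 0) =
        if σ x = 1 then n else 0 := by
      intro x
      by_cases h : σ x = 1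
      · rw [if_pos h, h, if_pos (IsConj.refl 1), card_centralizer_one, hn]
      · rw [if_neg h, if_neg]
        intro hc
        exact h (isConj_one_left.mp hc)
    rw [Finset.sum_congr rfl (fun x _ => h2 x), ← Finset.sum_filter, Finset.sum_const,
      smul_eq_mul, hmn] at h1
    exact h1
  have hn0 : 0 < n := by rw [← hn]; exact Nat.card_pos
  have hcount' : (Finset.univ.filter (fun x : G => σ x = 1)).card = m :=
    Nat.eq_of_mul_eq_mul_right hn0 hcount
  have hKcard : m ≤ Nat.card K := by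
    rw [← hcount', Nat.card_eq_fintype_card, Fintype.card_subtype]
    apply Finset.card_le_card
    intro x hx
    simp only [Finset.mem_filter, Finset.mem_univ, true_and] at hx ⊢
    exact hsub x hx
  refine ⟨K, hKn, ?_, hinf⟩
  have h1 := card_sup_mul_card_inf H K (by
    rw [Subgroup.normalizer_eq_top]; exact le_top)
  rw [inf_comm, hinf, Subgroup.card_bot, mul_one, hn] at h1
  rw [sup_comm]
  apply Subgroup.eq_top_of_le_card
  rw [h1, hmn, mul_comm]
  exact Nat.mul_le_mul_left n hKcard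

end BrauerSuzuki

end Cfsg.Agent.Lib.Helper4
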