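import Mathlib
import Cfsg.Agent.Lib.Helper83.Twist

/-!
# p-groups whose nonlinear characters of equal degree are Galois conjugate, part 1 (helper4)

Basic consequences of the hypothesis `GalConj`: kernels of Galois conjugate characters agree,
the kernel of a nonlinear character lies in the derived subgroup, the hypothesis passes to
quotients; characters of groups with central derived subgroup of prime order.
-/

set_option autoImplicit false

namespace Cfsg.Agent.Lib.Helper4.GalP

open Cfsg Cfsg.Agent.Lib.Helper83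

/-- nonlinear irreducible characters of equal degree are Galois conjugate -/
def GalConj (P : Type*) [Group P] : Prop :=
  ∀ χ ψ : IrrCharacter P, charDegree (χ : P → ℂ) ≠ 1 →
    charDegree (χ : P → ℂ) = charDegree (ψ : P → ℂ) →
    ∃ k : ℕ, Nat.Coprime k (Nat.card P) ∧ ∀ g : P, (ψ : P → ℂ) g = (χ : P → ℂ) (g ^ k)

section basic

variable {P : Type*} [Group P] [Finite P]

theorem ker_transfer (h : GalConj P) (χ ψ : IrrCharacter P) (h1 : charDegree (χ : P → ℂ) ≠ 1)
    (h2 : charDegree (χ : P → ℂ) = charDegree (ψ : P → ℂ)) (g : P)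
    (hg : (χ : P → ℂ) g = (χ : P → ℂ) 1) : (ψ : P → ℂ) g = (ψ : P → ℂ) 1 := by
  obtain ⟨k, -, hk⟩ := h χ ψ h1 h2
  rw [hk g, hk 1, one_pow]
  have h3 : g ∈ irrKer χ := (mem_irrKer χ g).mpr hg
  exact (mem_irrKer χ _).mp (pow_mem h3 k)

theorem exists_linear_ne_one (g : P) (hg : g ∉ commutator P) :
    ∃ l : IrrCharacter P, (l : P → ℂ) 1 = 1 ∧ (l : P → ℂ) g ≠ 1 := by
  have hne : (Abelianization.of g : Abelianization P) ≠ 1 := by
    intro h
    apply hg
    exact (QuotientGroup.eq_one_iff g).mp h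
  obtain ⟨φ, hφ⟩ :=
    CommGroup.exists_apply_ne_one_of_hasEnoughRootsOfUnity (Abelianization P) ℂ hne
  refine ⟨⟨_, isIrr_of_hom (φ.comp Abelianization.of)⟩, ?_, ?_⟩
  · simp
  · intro h
    apply hφ
    apply Units.ext
    exact h

theorem ker_le_commutator (h : GalConj P) (χ : IrrCharacter P)
    (h1 : charDegree (χ : P → ℂ) ≠ 1) (g : P) (hg : (χ : P → ℂ) g = (χ : P → ℂ) 1) :
    g ∈ commutator P := by
  by_contra hgc
  obtain ⟨l, hl1, hlg⟩ := exists_linear_ne_one g hgc
  have h2 := ker_transfer h χ (twist l χ hl1) h1 (charDegree_twist l χ hl1).symm g hg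
  rw [twist_apply, twist_apply, hl1, one_mul, hg] at h2
  have h3 : (χ : P → ℂ) 1 ≠ 0 := Helper83.irr_one_ne_zero χ.2
  apply hlg
  exact mul_right_cancel₀ h3 (by rw [h2, one_mul])

theorem galConj_quotient (h : GalConj P) (Y : Subgroup P) [Y.Normal] : GalConj (P ⧸ Y) := by
  intro χ ψ h1 h2
  obtain ⟨k, hk, hkg⟩ := h (inflate Y χ) (inflate Y ψ) (by rw [charDegree_inflate]; exact h1)
    (by rw [charDegree_inflate, charDegree_inflate]; exact h2)
  refine ⟨k, ?_, ?_⟩
  · exact Nat.Coprime.coprime_dvd_right (Subgroup.card_quotient_dvd_card Y) hk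
  · intro q
    obtain ⟨g, rfl⟩ := QuotientGroup.mk_surjective q
    have h3 := hkg g
    rw [inflate_apply, inflate_apply] at h3
    rw [h3]
    rfl

/-- A nontrivial normal subgroup of a finite `p`-group meets the centre nontrivially. -/
theorem normal_inf_center_ne_bot (p : ℕ) [Fact p.Prime]
    (hH : IsPGroup p P) (N : Subgroup P) [N.Normal] (hN : N ≠ ⊥) :
    N ⊓ Subgroup.center P ≠ ⊥ := by
  have hNp : IsPGroup p N := hH.to_subgroup N
  have hNt : Nontrivial N := (Subgroup.nontrivial_iff_ne_bot N).mpr hN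
  have hdvd : p ∣ Nat.card N := by
    obtain ⟨n, hn0, hn⟩ := hNp.nontrivial_iff_card.mp inferInstance
    exact hn ▸ dvd_pow_self p (Nat.pos_iff_ne_zero.mp hn0)
  have hfix : (1 : N) ∈ MulAction.fixedPoints (ConjAct P) N := by
    intro g
    exact smul_one g
  obtain ⟨b, hb, hb1⟩ :=
    (hH.of_equiv ConjAct.toConjAct).exists_fixed_point_of_prime_dvd_card_of_fixed_point N hdvd hfix
  intro hbot
  apply hb1
  have hbc : (b : P) ∈ N ⊓ Subgroup.center P := by
    refine Subgroup.mem_inf.mpr ⟨b.2, ?_⟩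
    rw [Subgroup.mem_center_iff]
    intro g
    have h1 := hb (ConjAct.toConjAct g)
    have h2 : g * (b : P) * g⁻¹ = b := by
      have := congrArg Subtype.val h1
      rw [ConjAct.Subgroup.val_conj_smul, ConjAct.smul_def] at this
      simpa using this
    calc g * (b : P) = g * (b : P) * g⁻¹ * g := by group
      _ = (b : P) * g := by rw [h2]
  rw [hbot, Subgroup.mem_bot] at hbc
  exact (Subtype.ext hbc).symm

theorem le_center_of_card_prime {p : ℕ} [Fact p.Prime] (hP : IsPGroup p P) (N : Subgroup P)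
    [N.Normal] (hN : Nat.card N = p) : N ≤ Subgroup.center P := by
  have hp : p.Prime := Fact.out
  have hne : N ≠ ⊥ := by
    intro h
    rw [h, Subgroup.card_bot] at hN
    exact hp.one_lt.ne hN
  have h1 := normal_inf_center_ne_bot p hP N hne
  haveI : Fact (Nat.card N).Prime := ⟨hN ▸ hp⟩
  rcases Subgroup.eq_bot_or_eq_top_of_prime_card ((Subgroup.center P).subgroupOf N) with h2 | h2
  · exfalso
    apply h1
    rw [Subgroup.subgroupOf_eq_bot] at h2
    rw [inf_comm]
    exact disjoint_iff.mp h2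
  · exact Subgroup.subgroupOf_eq_top.mp h2

/-- in a group whose derived subgroup is central of prime order, the nonlinear irreducible
characters vanish off the centre -/
theorem vanish_off_center (hp : (Nat.card (commutator P)).Prime)
    (hc : commutator P ≤ Subgroup.center P) (χ : IrrCharacter P)
    (hχ : charDegree (χ : P → ℂ) ≠ 1) (g : P) (hg : g ∉ Subgroup.center P) :
    (χ : P → ℂ) g = 0 := by
  by_contra hne
  rw [Subgroup.mem_center_iff] at hg
  push Not at hg
  obtain ⟨h, hh⟩ := hg
  have hcmem : h * g * h⁻¹ * g⁻¹ ∈ commutator P := by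
    rw [commutator_def]
    exact Subgroup.commutator_mem_commutator (Subgroup.mem_top h) (Subgroup.mem_top g)
  have hc1 : h * g * h⁻¹ * g⁻¹ ≠ 1 := by
    intro h1
    apply hh
    have h2 : h * g = (h * g * h⁻¹ * g⁻¹) * (g * h) := by group
    rw [h2, h1, one_mul]
  have hcz := hc hcmem
  have h2 : (χ : P → ℂ) ((h * g * h⁻¹ * g⁻¹) * g) = (χ : P → ℂ) g := by
    have h3 : (h * g * h⁻¹ * g⁻¹) * g = h * g * h⁻¹ := by group
    rw [h3]
    exact irr_classFunction χ.2 g h
  have h3 := irr_central_mul χ _ hcz g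
  rw [h2] at h3
  have h4 : (χ : P → ℂ) (h * g * h⁻¹ * g⁻¹) = (χ : P → ℂ) 1 := by
    have h5 : (χ : P → ℂ) g * (χ : P → ℂ) 1 = (χ : P → ℂ) g * (χ : P → ℂ) (h * g * h⁻¹ * g⁻¹) := by
      rw [h3]; ring
    exact (mul_left_cancel₀ hne h5).symm
  haveI : Fact (Nat.card (commutator P)).Prime := ⟨hp⟩
  have h5 : commutator P ≤ irrKer χ := by
    rcases Subgroup.eq_bot_or_eq_top_of_prime_card ((irrKer χ).subgroupOf (commutator P))
      with h6 | h6
    · exfalso
      have h7 : (⟨_, hcmem⟩ : commutator P) ∈ (irrKer χ).subgroupOf (commutator P) := by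
        rw [Subgroup.mem_subgroupOf]
        exact (mem_irrKer χ _).mpr h4
      rw [h6, Subgroup.mem_bot] at h7
      exact hc1 (congrArg Subtype.val h7)
    · exact Subgroup.subgroupOf_eq_top.mp h6
  apply hχ
  rw [irr_charDegree_eq_one_iff χ.2]
  exact irr_linear_of_commutator_le_ker χ (fun x hx => (mem_irrKer χ x).mp (h5 hx))

theorem degree_sq_mul_center (hp : (Nat.card (commutator P)).Prime)
    (hc : commutator P ≤ Subgroup.center P) (χ : IrrCharacter P)
    (hχ : charDegree (χ : P → ℂ) ≠ 1) :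
    charDegree (χ : P → ℂ) ^ 2 * Nat.card (Subgroup.center P) = Nat.card P :=
  degree_sq_mul_card_center χ (vanish_off_center hp hc χ hχ)

/-- under `GalConj`, if the derived subgroup has prime order then the nonlinear irreducible
characters are faithful -/
theorem faithful_of_gal (h : GalConj P) (hp : (Nat.card (commutator P)).Prime)
    (χ : IrrCharacter P) (hχ : charDegree (χ : P → ℂ) ≠ 1) : irrKer χ = ⊥ := by
  have h1 : irrKer χ ≤ commutator P :=
    fun g hg => ker_le_commutator h χ hχ g ((mem_irrKer χ g).mp hg)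
  haveI : Fact (Nat.card (commutator P)).Prime := ⟨hp⟩
  rcases Subgroup.eq_bot_or_eq_top_of_prime_card ((irrKer χ).subgroupOf (commutator P))
    with h6 | h6
  · rw [Subgroup.subgroupOf_eq_bot] at h6
    have h7 := disjoint_iff.mp h6
    rw [inf_of_le_left h1] at h7
    exact h7
  · exfalso
    have h5 : commutator P ≤ irrKer χ := Subgroup.subgroupOf_eq_top.mp h6
    apply hχ
    rw [irr_charDegree_eq_one_iff χ.2]
    exact irr_linear_of_commutator_le_ker χ (fun x hx => (mem_irrKer χ x).mp (h5 hx))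

/-- a group with a faithful irreducible character has cyclic centre -/
theorem center_cyclic_of_faithful (χ : IrrCharacter P) (hk : irrKer χ = ⊥) :
    IsCyclic (Subgroup.center P) := by
  have h0 : (χ : P → ℂ) 1 ≠ 0 := Helper83.irr_one_ne_zero χ.2
  let f : Subgroup.center P →* ℂ :=
    { toFun := fun z => (χ : P → ℂ) z / (χ : P → ℂ) 1
      map_one' := by
        show (χ : P → ℂ) ((1 : Subgroup.center P) : P) / (χ : P → ℂ) 1 = 1
        rw [Subgroup.coe_one, div_self h0]
      map_mul' := by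
        intro a b
        have h1 := irr_central_mul χ a a.2 b
        show (χ : P → ℂ) ((a * b : Subgroup.center P) : P) / (χ : P → ℂ) 1 =
          (χ : P → ℂ) a / (χ : P → ℂ) 1 * ((χ : P → ℂ) b / (χ : P → ℂ) 1)
        rw [Subgroup.coe_mul]
        field_simp
        exact h1 }
  apply isCyclic_of_injective_ringHom f
  intro a b hab
  have h1 : (χ : P → ℂ) a = (χ : P → ℂ) b := by
    have h2 : (χ : P → ℂ) a / (χ : P → ℂ) 1 = (χ : P → ℂ) b / (χ : P → ℂ) 1 := hab
    field_simp at h2
    exact h2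
  have h2 := irr_central_mul χ a a.2 (b : P)⁻¹
  have h3 := irr_central_mul χ b b.2 (b : P)⁻¹
  rw [mul_inv_cancel] at h3
  rw [h1, ← h3] at h2
  have h4 : (χ : P → ℂ) ((a : P) * (b : P)⁻¹) = (χ : P → ℂ) 1 := mul_right_cancel₀ h0 h2
  have h5 : (a : P) * (b : P)⁻¹ ∈ irrKer χ := (mem_irrKer χ _).mpr h4
  rw [hk, Subgroup.mem_bot] at h5
  apply Subtype.ext
  exact mul_inv_eq_one.mp h5

end basic

end Cfsg.Agent.Lib.Helper4.GalP
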