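import Mathlib
import Cfsg.Agent.Lib.Helper10.BR0
import Cfsg.Agent.Lib.Helper82.CharCore
import Cfsg.Agent.Lib.Helper21.Loc2
import Cfsg.Agent.Lib.Helper4.Eigen

/-!
# S0999 (Brauer–Reynolds), piece BR-X7: with `C_G(P) = P`, `|P| = p`, every irreducible character
of degree prime to `p` lies in the principal block.
-/

set_option autoImplicit false

namespace Cfsg.Agent.Lib.Helper10.BR

open Cfsg
open Cfsg.Agent.Lib.Helper83 (trivIrr)
open scoped ComplexConjugate

namespace BRX7aux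

/-- the value of an irreducible character at a `p`-element is congruent to its degree -/
theorem char_sub_degree_locIdeal {G : Type*} [Group G] [Finite G] {p : ℕ} {M : Ideal AlgInt}
    (hM : IsPModular p M) (ψ : IrrCharacter G) (g : G) (k : ℕ) (hg : g ^ (p ^ k) = 1) :
    MemLocalIdeal M ((ψ : G → ℂ) g - (ψ : G → ℂ) 1) := by
  obtain ⟨n, ρ, hρ, hχ, hn, h1⟩ := Cfsg.Agent.Lib.Helper82.irr_exists_rep ψ
  obtain ⟨ι, hι, hd, v, μ, h1', h2, -, -⟩ := Cfsg.Agent.Lib.Helper4.exists_eigenbasis_rep ρ g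
  have hg' : (ψ : G → ℂ) g = ∑ i, μ i := by
    rw [← hχ, Representation.character,
      Cfsg.Agent.Lib.Helper4.trace_eq_sum_of_eigenbasis v (ρ g) μ h1']
  have h1'' : (ψ : G → ℂ) 1 = ∑ _i : ι, (1 : ℂ) := by
    rw [← hχ, Representation.character,
      Cfsg.Agent.Lib.Helper4.trace_eq_sum_of_eigenbasis v (ρ 1) (fun _ => 1)
        (fun i => by rw [map_one, one_smul]; rfl)]
  rw [hg', h1'', ← Finset.sum_sub_distrib]
  apply Cfsg.Agent.Lib.Helper21.locIdeal_sum hM
  intro i _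
  apply Cfsg.Agent.Lib.Helper21.locIdeal_ppow_root hM (μ i) k
  obtain ⟨m, hm⟩ := orderOf_dvd_of_pow_eq_one hg
  rw [hm, pow_mul, h2 i, one_pow]

/-- if the class of `g` has size prime to `p` and `C_G(P) = P` has order `p`, then `g ^ p = 1` -/
theorem pow_eq_one_of_not_dvd_index {G : Type*} [Group G] [Finite G] (p : ℕ) [Fact p.Prime]
    (P : Sylow p G) (hP : Nat.card P = p)
    (hC : Subgroup.centralizer ((P : Subgroup G) : Set G) = (P : Subgroup G)) (g : G)
    (hidx : ¬ p ∣ (Subgroup.centralizer ({g} : Set G)).index) : g ^ p = 1 := by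
  have hfix := IsPGroup.nonempty_fixed_point_of_prime_not_dvd_card (p := p)
    (G := ↥(P : Subgroup G)) P.isPGroup' (G ⧸ Subgroup.centralizer ({g} : Set G)) hidx
  obtain ⟨q, hq⟩ := hfix
  induction q using QuotientGroup.induction_on with
  | H h =>
    have key : ∀ u : G, u ∈ (P : Subgroup G) → u * (h * g * h⁻¹) = (h * g * h⁻¹) * u := by
      intro u hu
      have h1 := hq ⟨u⁻¹, inv_mem hu⟩
      have h2 : (QuotientGroup.mk (u⁻¹ * h) : G ⧸ Subgroup.centralizer ({g} : Set G))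
          = QuotientGroup.mk h := h1
      rw [QuotientGroup.eq, Subgroup.mem_centralizer_iff] at h2
      have h3 := h2 g (Set.mem_singleton g)
      -- h3 : g * ((u⁻¹ * h)⁻¹ * h) = (u⁻¹ * h)⁻¹ * h * g
      have h4 : g * (h⁻¹ * u * h) = h⁻¹ * u * h * g := by
        have e : (u⁻¹ * h)⁻¹ * h = h⁻¹ * u * h := by group
        rw [e] at h3
        exact h3
      calc u * (h * g * h⁻¹) = h * (h⁻¹ * u * h * g) * h⁻¹ := by group
        _ = h * (g * (h⁻¹ * u * h)) * h⁻¹ := by rw [h4]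
        _ = (h * g * h⁻¹) * u := by group
    have hmem : h * g * h⁻¹ ∈ (P : Subgroup G) := by
      rw [← hC, Subgroup.mem_centralizer_iff]
      intro u hu
      exact key u hu
    have hpow : (h * g * h⁻¹) ^ p = 1 := by
      have h5 : (⟨h * g * h⁻¹, hmem⟩ : (P : Subgroup G)) ^ Nat.card (P : Subgroup G) = 1 :=
        pow_card_eq_one'
      rw [hP] at h5
      exact congrArg Subtype.val h5
    rw [conj_pow] at hpow
    calc g ^ p = h⁻¹ * (h * g ^ p * h⁻¹) * h := by group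
      _ = 1 := by rw [hpow]; group

end BRX7aux

/-- BR-X7 -/
theorem mem_principal_of_self_centralizing {G : Type*} [Group G] [Fintype G] (p : ℕ)
    [Fact p.Prime] (M : Ideal AlgInt) (hM : IsPModular p M) (P : Sylow p G)
    (hP : Nat.card P = p)
    (hC : Subgroup.centralizer ((P : Subgroup G) : Set G) = (P : Subgroup G))
    (ψ : IrrCharacter G) (hψ : ¬ p ∣ charDegree (ψ : G → ℂ)) : ψ ∈ principalBlock M G := by
  classical
  show SameBlock M (fun _ : G => (1 : ℂ)) (ψ : G → ℂ)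
  intro g
  obtain ⟨hd1, hd0⟩ := Cfsg.Agent.Lib.Helper82.irr_charDegree ψ
  have hdC : ((charDegree (ψ : G → ℂ) : ℕ) : ℂ) ≠ 0 := by exact_mod_cast hd0
  have hdiff : centralChar (fun _ : G => (1 : ℂ)) g - centralChar (ψ : G → ℂ) g
      = (((Subgroup.centralizer ({g} : Set G)).index : ℂ) *
          ((ψ : G → ℂ) 1 - (ψ : G → ℂ) g)) * ((charDegree (ψ : G → ℂ) : ℕ) : ℂ)⁻¹ := by
    unfold centralChar
    rw [← hd1]
    field_simp
  rw [hdiff]
  apply Cfsg.Agent.Lib.Helper21.locIdeal_mul_right hM _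
    (Cfsg.Agent.Lib.Helper21.locRing_inv_natCast hM hψ)
  by_cases hdvd : p ∣ (Subgroup.centralizer ({g} : Set G)).index
  · apply Cfsg.Agent.Lib.Helper21.locIdeal_mul_right hM
      ((Cfsg.Agent.Lib.Helper21.locIdeal_natCast_iff hM _).2 hdvd)
    exact Cfsg.Agent.Lib.Helper21.locRing_sub hM
      (Cfsg.Agent.Lib.Helper21.locRing_of_isIntegral hM
        (Cfsg.Agent.Lib.Helper82.irr_isIntegral ψ 1))
      (Cfsg.Agent.Lib.Helper21.locRing_of_isIntegral hM
        (Cfsg.Agent.Lib.Helper82.irr_isIntegral ψ g))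
  · apply Cfsg.Agent.Lib.Helper21.locIdeal_mul_left hM
      (Cfsg.Agent.Lib.Helper21.locRing_natCast hM _)
    have hgp : g ^ (p ^ 1) = 1 := by
      rw [pow_one]
      exact BRX7aux.pow_eq_one_of_not_dvd_index p P hP hC g hdvd
    have h1 := Cfsg.Agent.Lib.Helper21.locIdeal_neg
      (BRX7aux.char_sub_degree_locIdeal hM ψ g 1 hgp)
    rwa [neg_sub] at h1

end Cfsg.Agent.Lib.Helper10.BR
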