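import Mathlib

/-!
# Project TP (S4033): two p-regular class sizes — definitions and piece statements

`Cen x` is the centralizer of the element `x`; `PReg p x` says the order of `x` is prime to `p`;
`NC p x` says `x` is a noncentral `p`-regular element.  Every `…Stmt` below is the statement of
one piece of the proof; the pieces are proved in separate files and assembled in `TPCore`.
-/

namespace Cfsg.Agent.Lib.Helper4.TP

universe u

/-- centralizer of an element -/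
abbrev Cen {G : Type u} [Group G] (x : G) : Subgroup G := Subgroup.centralizer ({x} : Set G)

/-- `p`-regular element -/
def PReg {G : Type u} [Group G] (p : ℕ) (x : G) : Prop := (orderOf x).Coprime p

/-- noncentral `p`-regular element -/
def NC {G : Type u} [Group G] (p : ℕ) (x : G) : Prop := PReg p x ∧ x ∉ Subgroup.center G

/-- the hypothesis: noncentral `p`-regular elements exist and all have centralizer index `m` -/
def Hyp (G : Type u) [Group G] (p m : ℕ) : Prop :=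
  1 < m ∧ (∃ x : G, NC p x) ∧ ∀ x : G, NC p x → (Cen x).index = m

/-- the key property (proved in CASE II by the front part) -/
def A1Prop (G : Type u) [Group G] (p : ℕ) : Prop :=
  ∀ g w : G, NC p g → PReg p w → w ∈ Cen g → Cen g ≤ Cen w

/-- CASE II: two different primes, both different from `p`, with noncentral elements of
prime-power order -/
def TwoPrimes (G : Type u) [Group G] (p : ℕ) : Prop :=
  ∃ (q r : ℕ) (x z : G), q.Prime ∧ r.Prime ∧ q ≠ p ∧ r ≠ p ∧ q ≠ r ∧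
    x ∉ Subgroup.center G ∧ z ∉ Subgroup.center G ∧
    (∃ a, orderOf x = q ^ a) ∧ (∃ b, orderOf z = r ^ b)

/-- the configuration shown to be impossible -/
def Bad (G : Type u) [Group G] (p m : ℕ) : Prop :=
  Hyp G p m ∧ TwoPrimes G p ∧ ¬ ∃ k, m = p ^ k

/-- all nonidentity elements of `K` have the same fixed points -/
def SameFix {A : Type u} [CommGroup A] (K : Subgroup (MulAut A)) : Prop :=
  ∀ x y : MulAut A, x ∈ K → y ∈ K → x ≠ 1 → y ≠ 1 → ∀ v : A, x v = v ↔ y v = v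

/-- some element of `K` moves some element of `s`-power order -/
def Moves {A : Type u} [CommGroup A] (K : Subgroup (MulAut A)) (s : ℕ) : Prop :=
  ∃ k ∈ K, ∃ a : A, (∃ i, orderOf a = s ^ i) ∧ k a ≠ a

/-! ## Piece statements -/

/-- Y2 -/
def Y2Stmt : Prop := ∀ (G : Type u) [Group G] [Finite G] (p m t : ℕ), p.Prime → Hyp G p m →
  t.Prime → t ≠ p → t ∣ m → ∀ T : Sylow t G, ∃ y : G, y ∈ T ∧ y ∉ Subgroup.center G ∧
    (∀ g ∈ T, g * y * g⁻¹ * y⁻¹ ∈ Subgroup.center G) ∧ y ^ t ∈ Subgroup.center G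

/-- IDX -/
def IdxStmt : Prop := ∀ (G : Type u) [Group G] [Finite G] (p m t : ℕ), p.Prime → Hyp G p m →
  t.Prime → t ≠ p → ∀ (T : Sylow t G) (y : G), y ∈ T → y ∉ Subgroup.center G →
    (∀ g ∈ T, g * y * g⁻¹ * y⁻¹ ∈ Subgroup.center G) →
    (Cen y).relIndex (T : Subgroup G) = t ^ m.factorization t

/-- FTABS -/
def FTAbsStmt : Prop := ∀ (G : Type u) [Group G] [Finite G] (t : ℕ), t.Prime →
  ∀ (T U U0 : Subgroup G) (y : G), IsPGroup t T →
    (∀ g ∈ T, g * y * g⁻¹ * y⁻¹ ∈ Subgroup.center G) → y ^ t ∈ Subgroup.center G →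
    T ≤ Subgroup.normalizer (U : Set G) → (∀ u ∈ U, ∀ v ∈ U, u * v = v * u) → (Nat.card U).Coprime t →
    U0 ≤ U → U0 ≤ Subgroup.center G → U0 ≠ U →
    (∀ g ∈ T, g ∈ Cen y → ∀ u ∈ U, g * u = u * g) →
    (∀ g ∈ T, g ∉ Cen y → ∀ u ∈ U, g * u = u * g → u ∈ U0) →
    (Cen y).relIndex T ∣ t

/-- NCR -/
def NCRStmt : Prop := ∀ (G : Type u) [Group G] [Finite G] (p m r : ℕ), p.Prime → Hyp G p m →
  r.Prime → r ≠ p → ∀ z : G, z ∉ Subgroup.center G → (∃ k, orderOf z = r ^ k) →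
    ∀ g : G, NC p g → ∃ w : G, w ∈ Cen g ∧ w ∉ Subgroup.center G ∧ ∃ k, orderOf w = r ^ k

/-- UC -/
def UCStmt : Prop := ∀ (G : Type u) [Group G] [Finite G] (p r : ℕ), p.Prime → r.Prime → r ≠ p →
  A1Prop G p → ∀ g : G, NC p g → ∃ U : Subgroup G,
    (∀ w : G, w ∈ U ↔ w ∈ Cen g ∧ ∃ k, orderOf w = r ^ k) ∧
    (∀ w ∈ U, ∀ c ∈ Cen g, c * w = w * c)

/-- HC -/
def HCStmt : Prop := ∀ (G : Type u) [Group G] [Finite G] (p : ℕ), p.Prime →
  A1Prop G p → ∀ g : G, NC p g → ∃ H : Subgroup G,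
    (∀ w : G, w ∈ H ↔ w ∈ Cen g ∧ PReg p w) ∧
    (∀ w ∈ H, ∀ c ∈ Cen g, c * w = w * c)

/-- FT (proved by piece FTG from FTABS, NCR, UC) -/
def FTStmt : Prop := ∀ (G : Type u) [Group G] [Finite G] (p m t : ℕ), p.Prime → Hyp G p m →
  A1Prop G p → TwoPrimes G p → t.Prime → t ≠ p → ∀ (T : Sylow t G) (y : G), y ∈ T →
    y ∉ Subgroup.center G → (∀ g ∈ T, g * y * g⁻¹ * y⁻¹ ∈ Subgroup.center G) →
    y ^ t ∈ Subgroup.center G → (Cen y).relIndex (T : Subgroup G) ∣ t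

/-- N4A -/
def N4AStmt : Prop := ∀ (A : Type u) [CommGroup A] [Finite A] (K : Subgroup (MulAut A)) (t : ℕ),
  t.Prime → SameFix K → Moves K t → t ∣ Nat.card K →
    ∀ N : Subgroup ↥K, N.Normal → ¬ t ∣ Nat.card N → N = ⊥

/-- N4B -/
def N4BStmt : Prop := ∀ (A : Type u) [CommGroup A] [Finite A] (K : Subgroup (MulAut A)) (s : ℕ),
  s.Prime → SameFix K → Moves K s →
    ∀ B : Subgroup (MulAut A), B ≤ K → (Nat.card B).Coprime s →
      (∀ x ∈ B, ∀ y ∈ B, x * y = y * x) → IsCyclic B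

/-- N4C -/
def N4CStmt : Prop := ∀ (A : Type u) [CommGroup A] [Finite A] (K : Subgroup (MulAut A))
  (s t : ℕ), s.Prime → t.Prime → s ≠ t → SameFix K → Moves K s → Moves K t →
    ∀ i ∈ K, ∀ j ∈ K, orderOf i = 2 → orderOf j = 2 → i = j

/-- SOLVA -/
def SolvAStmt : Prop := ∀ (Q : Type u) [Group Q] [Finite Q] (N : Subgroup Q), N.Normal → N ≠ ⊥ →
  Group.IsSolvable N → ∃ (r : ℕ) (R : Subgroup Q), r.Prime ∧ R.Normal ∧ R ≠ ⊥ ∧ IsPGroup r R ∧ R ≤ N

/-- N4ABS (proved by piece N4D from N4A, N4B, N4C, SOLVA) -/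
def N4AbsStmt : Prop := ∀ (A : Type u) [CommGroup A] [Finite A] (K : Subgroup (MulAut A))
  (s t : ℕ), s.Prime → t.Prime → s ≠ t → SameFix K → Moves K s → Moves K t →
    s ∣ Nat.card K → t ∣ Nat.card K → ¬ s ^ 2 ∣ Nat.card K → ¬ t ^ 2 ∣ Nat.card K → False

/-- N4 (proved by piece N4G from N4ABS, Y2, IDX, NCR, HC, UC) -/
def N4Stmt : Prop := ∀ (G : Type u) [Group G] [Finite G] (p m s t : ℕ), p.Prime → Hyp G p m →
  A1Prop G p → s.Prime → t.Prime → s ≠ p → t ≠ p → s ≠ t → s ∣ m → t ∣ m →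
    ¬ s ^ 2 ∣ m → ¬ t ^ 2 ∣ m → False

/-- TRANS -/
def TransStmt : Prop := ∀ (G : Type u) [Group G] [Finite G] (p m s : ℕ), p.Prime → Hyp G p m →
  A1Prop G p → s.Prime → s ≠ p → ¬ s ∣ m → ∀ x : G, x ∉ Subgroup.center G →
    (∃ k, orderOf x = s ^ k) → ∀ w : G, NC p w → ∃ h : G, Cen w = Cen (h * x * h⁻¹)

/-- S3 -/
def S3Stmt : Prop := ∀ (G : Type u) [Group G] [Finite G] (p m s : ℕ), p.Prime → Hyp G p m →
  A1Prop G p → s.Prime → s ≠ p → ¬ s ∣ m → ∀ x : G, x ∉ Subgroup.center G →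
    (∃ k, orderOf x = s ^ k) → ∀ w : G, NC p w → x ∈ Subgroup.normalizer ((Cen w : Subgroup G) : Set G) → Cen w = Cen x

/-- KAZ -/
def KazStmt : Prop := ∀ (G : Type u) [Group G] [Finite G] (p m t : ℕ), p.Prime → Hyp G p m →
  t.Prime → t ≠ p → (∃ a, m = p ^ a * t) → ∀ (T : Sylow t G) (y : G), y ∈ T →
    y ∉ Subgroup.center G → (∀ g ∈ T, g * y * g⁻¹ * y⁻¹ ∈ Subgroup.center G) →
    ∃ k : ℕ, (Cen (QuotientGroup.mk (s := Subgroup.center G) y :
      G ⧸ Subgroup.center G)).index = p ^ k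

/-- SOLVB -/
def SolvBStmt : Prop := ∀ (G : Type u) [Group G] [Finite G] (r : ℕ), r.Prime →
  ∀ R : Subgroup (G ⧸ Subgroup.center G), R.Normal → R ≠ ⊥ → IsPGroup r R →
    ∃ B : Subgroup G, B.Normal ∧ IsPGroup r B ∧ ¬ B ≤ Subgroup.center G

/-- RS -/
def RSStmt : Prop := ∀ (G : Type u) [Group G] [Finite G] (p m t r : ℕ), p.Prime → Hyp G p m →
  t.Prime → t ≠ p → t ∣ m → r.Prime → r ≠ p → ¬ r ∣ m →
    ∀ B : Subgroup G, B.Normal → IsPGroup r B → B ≤ Subgroup.center G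

/-- CONJ -/
def ConjStmt : Prop := ∀ (G : Type u) [Group G] [Finite G] (B : Subgroup G), B.Normal →
  ∀ x h : G, (Cen (h * x * h⁻¹)).relIndex B = (Cen x).relIndex B

/-- RT1a -/
def RT1aStmt : Prop := ∀ (G : Type u) [Group G] [Finite G] (p m t : ℕ), p.Prime → Hyp G p m →
  A1Prop G p → t.Prime → t ≠ p → ∀ (T : Sylow t G) (y x : G), y ∈ T → y ∉ Subgroup.center G →
    (Cen y).relIndex (T : Subgroup G) = t →
    (∀ w : G, NC p w → ∃ h : G, Cen w = Cen (h * x * h⁻¹)) →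
    ∀ B : Subgroup G, B.Normal → IsPGroup t B → ¬ B ≤ Subgroup.center G →
      ∀ w : G, NC p w → (Cen w).relIndex B = t

/-- RT1b -/
def RT1bStmt : Prop := ∀ (G : Type u) [Group G] [Finite G] (p m t : ℕ), p.Prime → Hyp G p m →
  A1Prop G p → t.Prime → t ≠ p → ∀ B : Subgroup G, B.Normal → IsPGroup t B →
    (∀ w : G, NC p w → (Cen w).relIndex B = t) → (Subgroup.center G).relIndex B = t ^ 2

/-- RTABS -/
def RTAbsStmt : Prop := ∀ (G : Type u) [Group G] [Finite G] (t s : ℕ), t.Prime → s.Prime →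
  s ≠ t → ∀ (B : Subgroup G) (x : G), B.Normal → IsPGroup t B → (∃ k, orderOf x = s ^ k) →
    (Subgroup.center G).relIndex B = t ^ 2 → (Cen x).relIndex B = t →
    ∃ c ∈ B, c ∉ Cen x ∧ (x * c * x⁻¹) * c = c * (x * c * x⁻¹)

/-- AVG -/
def AvgStmt : Prop := ∀ (G : Type u) [Group G] [Finite G] (B : Subgroup G), B.Normal →
  (∀ u ∈ B, ∀ v ∈ B, u * v = v * u) → ∀ x g : G, (orderOf x).Coprime (Nat.card B) →
    g * x * g⁻¹ * x⁻¹ ∈ B → ∃ b ∈ B, b * x * b⁻¹ = g * x * g⁻¹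

/-- RP1 (proved from AVG) -/
def RP1Stmt : Prop := ∀ (G : Type u) [Group G] [Finite G] (B : Subgroup G) [B.Normal],
  (∀ u ∈ B, ∀ v ∈ B, u * v = v * u) → ∀ x : G, (orderOf x).Coprime (Nat.card B) →
    (Cen (QuotientGroup.mk (s := B) x : G ⧸ B)).index * (Cen x).relIndex B = (Cen x).index

/-- RPQ (proved from RP1) -/
def RPQStmt : Prop := ∀ (G : Type u) [Group G] [Finite G] (p m : ℕ), p.Prime → Bad G p m →
  ∀ (B : Subgroup G) [B.Normal], IsPGroup p B → (∀ u ∈ B, ∀ v ∈ B, u * v = v * u) →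
    (∃ d, ∀ w : G, NC p w → (Cen w).relIndex B = d) → ∃ m', Bad (G ⧸ B) p m'

/-- ZB -/
def ZBStmt : Prop := ∀ (G : Type u) [Group G] [Finite G] (p : ℕ), p.Prime →
  ∀ B : Subgroup G, B.Normal → IsPGroup p B → B ≠ ⊥ →
    ∃ B' : Subgroup G, B'.Normal ∧ IsPGroup p B' ∧ B' ≠ ⊥ ∧ (∀ u ∈ B', ∀ v ∈ B', u * v = v * u)

end Cfsg.Agent.Lib.Helper4.TP
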