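import Mathlib
import Cfsg.Agent.Lib.Helper22.BFMain
import Cfsg.Agent.Lib.Helper4.HPLOCS1A
import Cfsg.Agent.Lib.Helper4.HPLOCS1B

/-!
# S4504 piece HP-LOCAL (helper4): `core'`

Copy of `Cfsg.Agent.Lib.Helper22.BFT.core` with `2 χ(1) + 1 ≤ p`: a finite group `G` with
`p ∥ |G|`, of order `≠ p`, generated by the conjugates of an element `z` of order `p`, having a
faithful irreducible character `χ` with `2 χ(1) + 1 ≤ p`, satisfies
`|Ef p z| ≤ χ(1)` and `p ≤ 2 |Ef p z| + 1`, and the multiplicities of the eigenvalues of `z`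
are supported on one coset of `Ef p z`.
-/

set_option autoImplicit false
set_option linter.style.haveILetI false
set_option linter.unusedVariables false
set_option maxHeartbeats 1600000

namespace Cfsg.Agent.Lib.Helper4.HPT

open Cfsg Cfsg.Agent.Lib.Helper22.BFD Cfsg.Agent.Lib.Helper22.BFT
open Cfsg.Agent.Lib.Helper40.BFT Cfsg.Agent.Lib.Helper86.BFT Cfsg.Agent.Lib.Helper75.BFT Cfsg.Agent.Lib.Helper87.BFT Cfsg.Agent.Lib.Helper35.BFT Cfsg.Agent.Lib.Helper82.BFT Cfsg.Agent.Lib.Helper33.BFT Cfsg.Agent.Lib.Helper16.BFT Cfsg.Agent.Lib.Helper68.BFT Cfsg.Agent.Lib.Helper83.BFT Cfsg.Agent.Lib.Helper77.BFT Cfsg.Agent.Lib.Helper67.BFT Cfsg.Agent.Lib.Helper63.BFT Cfsg.Agent.Lib.Helper64.BFT Cfsg.Agent.Lib.Helper31.BFT Cfsg.Agent.Lib.Helper85.BFT Cfsg.Agent.Lib.Helper28.BFT Cfsg.Agent.Lib.Helper21.BFT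
open scoped ComplexConjugate

universe u

section

variable {G : Type u} [Group G] [Fintype G]

theorem core' (p : ℕ) [Fact p.Prime] (hdiv : p ∣ Nat.card G) (hsq : ¬ p ^ 2 ∣ Nat.card G)
    (z : G) (hz : orderOf z = p) (hncl : Subgroup.normalClosure ({z} : Set G) = ⊤)
    (hcard : Nat.card G ≠ p)
    (χ : IrrCharacter G) (hfaith : ∀ g : G, χ.1 g = χ.1 1 → g = 1)
    (hdeg : 2 * charDegree χ.1 + 1 ≤ p) (ζ : ℂ) (hζ : IsPrimitiveRoot ζ p) :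
    ∃ (a : ZMod p → ℕ) (u₀ : ZMod p), u₀ ≠ 0 ∧
      (∀ t : ZMod p, χ.1 (z ^ t.val) = ∑ u : ZMod p, (a u : ℂ) * ζ ^ (u * t).val) ∧
      (∀ k ∈ Ef p z, ∀ u : ZMod p, a (k * u) = a u) ∧
      (∀ u : ZMod p, a u ≠ 0 → ∃ k ∈ Ef p z, u = k * u₀) ∧
      (Ef p z).card ≤ charDegree χ.1 ∧ p ≤ 2 * (Ef p z).card + 1 := by
  have hp : p.Prime := Fact.out
  obtain ⟨hd1, hd0⟩ := Cfsg.Agent.Lib.Helper82.irr_charDegree χ
  have hzp : z ^ p = 1 := by rw [← hz]; exact pow_orderOf_eq_one z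
  have hcf : ∀ x h : G, χ.1 (h * x * h⁻¹) = χ.1 x :=
    fun x h => Cfsg.Agent.Lib.Helper83.irr_classFunction χ.2 x h
  have hχc : IsCharacter G χ.1 := by
    obtain ⟨n, ρ, -, h⟩ := χ.2
    exact ⟨n, ρ, h⟩
  -- the structure of χ
  have hnd : ¬ p ∣ charDegree χ.1 := by
    intro h
    have := Nat.le_of_dvd (Nat.pos_of_ne_zero hd0) h
    omega
  obtain ⟨hstr, hrk⟩ := str_all p hdiv hsq ζ hζ χ hnd z hz
  obtain ⟨a, ha⟩ := pdec p ζ hζ χ.1 hχc z hzp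
  have hst := a_stable p ζ hζ z hz χ.1 hcf a ha
  obtain ⟨hfn, u₀, hu₀, hW⟩ := step1a' p ζ hζ z hz χ hfaith hdeg hstr a ha hst
  refine ⟨a, u₀, hu₀, ha, hst, hW, hfn, ?_⟩
  rcases step1b' p ζ hζ z hz χ.1 (charDegree χ.1) hd1.symm a ha hfn u₀ hu₀ hW with
    ⟨c, hc, hcz⟩ | ⟨hf2, hZ1⟩
  · exact absurd (card_of_central p z hz hncl (central_of_norm χ hfaith z c hc hcz)) hcard
  · by_contra hcon
    have hf : 2 * (Ef p z).card + 1 < p := by omega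
    have htri : ∀ φ : IrrCharacter G, Tri p z φ.1 := fun φ => tri_all p hdiv hsq φ z hz
    have hpdec : ∀ φ : G → ℂ, IsCharacter G φ → ∃ a : ZMod p → ℕ, ∀ t : ZMod p,
        φ (z ^ t.val) = ∑ u : ZMod p, (a u : ℂ) * ζ ^ (u * t).val :=
      fun φ hφ => pdec p ζ hζ φ hφ z hzp
    have hirrc : ∀ φ : IrrCharacter G, IsCharacter G φ.1 := by
      intro φ
      obtain ⟨n, ρ, -, h⟩ := φ.2
      exact ⟨n, ρ, h⟩
    have hsum0 : ∀ u : ZMod p, ∑ t : ZMod p, ζ ^ (u * t).val = if u = 0 then (p : ℂ) else 0 := by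
      intro u
      have h1 : ∀ t : ZMod p, ζ ^ (u * t).val =
          (AddChar.zmodChar p hζ.pow_eq_one) (t * u) := by
        intro t
        rw [AddChar.zmodChar_apply, mul_comm]
      rw [Finset.sum_congr rfl (fun t _ => h1 t),
        AddChar.sum_mulShift u (AddChar.zmodChar_primitive_of_primitive_root p hζ), ZMod.card]
      split_ifs <;> simp
    have hsP : ∀ φ : G → ℂ, IsCharacter G φ → ∃ m : ℕ, sP p z φ = ((p * m : ℕ) : ℂ) := by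
      intro φ hφ
      obtain ⟨b, hb⟩ := hpdec φ hφ
      refine ⟨b 0, ?_⟩
      unfold sP
      rw [Finset.sum_congr rfl (fun t _ => hb t), Finset.sum_comm]
      simp_rw [← Finset.mul_sum, hsum0]
      simp [mul_comm]
    have hpos : ∀ φ : IrrCharacter G, ∃ m : ℕ, sP p z φ.1 = (m : ℂ) := by
      intro φ
      obtain ⟨m, hm⟩ := hsP φ.1 (hirrc φ)
      exact ⟨p * m, hm⟩
    have hfix : ∀ φ : IrrCharacter G, sP p z φ.1 = 0 →
        ∑ t : ZMod p, ∑ y ∈ Kf p z, φ.1 (z ^ t.val * y) = 0 :=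
      fun φ h => fix_cent p hsq z hz φ.1 (hirrc φ) h
    have hineq : ∀ φ : IrrCharacter G, φ.1 ≠ (fun _ => 1) → (∀ y ∈ Kf p z, φ.1 y = φ.1 1) →
        ∀ m : ℕ, sP p z φ.1 = ((p * m : ℕ) : ℂ) → (p + 1) * m ≤ 2 * charDegree φ.1 :=
      fun φ h1 hK m hm => case_a_ineq p z hz hncl hf φ h1 hK (htri φ) m hm
    have hneg : ∀ a' b' : ZMod p, a' ≠ 0 → b' ≠ 0 → ¬ IsConj (z ^ a'.val) (z ^ b'.val) →
        ∃ F : ℝ, 0 < F ∧
          ∑ y ∈ Kf p z, χ.1 (z ^ a'.val * y) * conj (χ.1 (z ^ b'.val * y)) = -(F : ℂ) := by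
      intro a' b' ha' hb' hnc
      obtain ⟨Ξ, hΞ, hΞv⟩ := gal_prod p hdiv hsq z hz χ a' b' ha' hb'
      rcases pair_step p z hz χ htri hpos hfix Ξ hΞ a' b' hΞv (hZ1 a' b' ha' hb' hnc) with
        ⟨ψ, hψ⟩ | h
      · exact (case_a_sum p ζ hζ z hz hf hf2 hpdec hineq ψ hψ).elim
      · exact h
    obtain ⟨a₁, b₁, c₁, ha₁, hb₁, hc₁, hab, hbc, hac⟩ := three_classes p z hz hf
    exact case_b p z hz χ.1 hrk a₁ b₁ c₁ ha₁ hb₁ hc₁ hab hbc hac hneg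


end

end Cfsg.Agent.Lib.Helper4.HPT
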