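import Mathlib
import Cfsg.Agent.Lib.Helper4.HPLOCCORE
import Cfsg.Agent.Lib.Helper4.CharClosure
import Cfsg.Agent.Lib.Helper31.HPETA
import Cfsg.Agent.Lib.Helper16.HPLOCNCL
import Cfsg.Agent.Lib.Helper39.HPLOCVAL

/-!
# S4504 piece HP-LOCAL (helper4): assembly modulo the piece IRR

`hp_local_of_irr`: the statement of `hp_local` with the irreducibility piece as a hypothesis
(in the same shape as in `hp_nolin` of the skeleton).
-/

set_option autoImplicit false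
set_option linter.style.haveILetI false
set_option linter.unusedVariables false
set_option maxHeartbeats 1600000

namespace Cfsg.Agent.Lib.Helper4.HPT

open Cfsg Cfsg.Agent.Lib.Helper22.BFD Cfsg.Agent.Lib.Helper22.HPD
open Cfsg.Agent.Lib.Helper16.HPT Cfsg.Agent.Lib.Helper39.HPT
open scoped ComplexConjugate

universe u

/-- the Gauss periods separate the squares from the non-squares -/
theorem hpl_eta_inj (p : ℕ) [Fact p.Prime] (hp2 : p ≠ 2) (ζ : ℂ) (hζ : IsPrimitiveRoot ζ p)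
    (k : ZMod p) (hk0 : k ≠ 0) (h : eta p ζ k = eta p ζ 1) : k ∈ Sq p := by
  by_contra hk
  obtain ⟨-, -, -, -, -, h6⟩ := Cfsg.Agent.Lib.Helper31.HPT.eta_facts p hp2 ζ hζ
  obtain ⟨-, h7⟩ := h6 k hk0 hk
  obtain ⟨-, h8⟩ := h7 1 one_ne_zero
  rw [mul_one, h, sub_self, norm_zero] at h8
  have h9 : (p : ℝ) = 0 := by rw [← h8]; norm_num
  exact (Fact.out : p.Prime).ne_zero (by exact_mod_cast h9)

theorem hp_local_of_irr {G : Type u} [Group G] [Fintype G] (p : ℕ) [Fact p.Prime]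
    (hirr : ∀ (H : Type u) [Group H] [Finite H], p ∣ Nat.card H → ¬ p ^ 2 ∣ Nat.card H →
      (∀ L : Subgroup H, L.Normal → Nat.card L ≠ p) → ∀ ψ : H → ℂ, IsCharacter H ψ →
      (∀ g : H, ψ g = ψ 1 → g = 1) → 2 * charDegree ψ + 1 = p → IsIrrCharacter H ψ)
    (hdiv : p ∣ Nat.card G) (hsq : ¬ p ^ 2 ∣ Nat.card G)
    (hnn : ∀ H : Subgroup G, H.Normal → Nat.card H ≠ p)
    (χ : IrrCharacter G) (hfaith : ∀ g : G, χ.1 g = χ.1 1 → g = 1)
    (hdeg : 2 * charDegree χ.1 + 1 = p) :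
    ∃ (z : G) (ζ : ℂ), orderOf z = p ∧ IsPrimitiveRoot ζ p ∧
      (∀ k : ZMod p, IsConj (z ^ k.val) z ↔ k ∈ Sq p) ∧
      (∀ t : ZMod p, χ.1 (z ^ t.val) = eta p ζ t) := by
  classical
  have hp : p.Prime := Fact.out
  haveI : Fact (1 < p) := ⟨hp.one_lt⟩
  have hp2 : p ≠ 2 := by omega
  obtain ⟨ζ, hζ⟩ : ∃ ζ : ℂ, IsPrimitiveRoot ζ p :=
    ⟨_, Complex.isPrimitiveRoot_exp p hp.ne_zero⟩
  obtain ⟨z, hz⟩ := exists_prime_orderOf_dvd_card' p hdiv
  have hz1 : z ≠ 1 := by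
    intro h
    rw [h, orderOf_one] at hz
    exact hp.one_lt.ne hz
  obtain ⟨H, hH⟩ : ∃ H : Subgroup G, H = Subgroup.normalClosure ({z} : Set G) := ⟨_, rfl⟩
  have hzH : z ∈ H := by
    rw [hH]; exact Subgroup.subset_normalClosure (Set.mem_singleton z)
  letI : Fintype ↥H := Fintype.ofFinite _
  obtain ⟨hncl, hnnH⟩ := local_ncl p hsq hnn z hz H hH ⟨z, hzH⟩ rfl
  have hzo : orderOf (⟨z, hzH⟩ : ↥H) = p := by
    rw [← hz]; exact Subgroup.orderOf_mk z hzH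
  have hdivH : p ∣ Nat.card ↥H := by
    rw [← hzo]; exact orderOf_dvd_natCard _
  have hsqH : ¬ p ^ 2 ∣ Nat.card ↥H :=
    fun h => hsq (h.trans (Subgroup.card_subgroup_dvd_card H))
  have hχc : IsCharacter G χ.1 := by
    obtain ⟨n, ρ, -, h⟩ := χ.2
    exact ⟨n, ρ, h⟩
  have hcf : ∀ x h : G, χ.1 (h * x * h⁻¹) = χ.1 x :=
    fun x h => Cfsg.Agent.Lib.Helper83.irr_classFunction χ.2 x h
  have hψc : IsCharacter ↥H (fun h : ↥H => χ.1 h) :=
    Cfsg.Agent.Lib.Helper4.isCharacter_restrict H χ.1 hχc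
  have hψf : ∀ g : ↥H, (fun h : ↥H => χ.1 h) g = (fun h : ↥H => χ.1 h) 1 → g = 1 := by
    intro g hg
    exact Subtype.ext (hfaith g hg)
  have hψd : 2 * charDegree (fun h : ↥H => χ.1 h) + 1 = p := hdeg
  have hψi : IsIrrCharacter ↥H (fun h : ↥H => χ.1 h) :=
    hirr ↥H hdivH hsqH hnnH _ hψc hψf hψd
  have hcardH : Nat.card ↥H ≠ p := by
    intro h
    exact hnnH ⊤ inferInstance (by rw [Subgroup.card_top]; exact h)
  obtain ⟨a, u₀, hu₀, ha, hst, hW, hle, hge⟩ :=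
    core' p hdivH hsqH ⟨z, hzH⟩ hzo hncl hcardH ⟨_, hψi⟩ hψf (le_of_eq hψd) ζ hζ
  have hdd : charDegree (fun h : ↥H => χ.1 h) = charDegree χ.1 := rfl
  have hEfH : (Ef p (⟨z, hzH⟩ : ↥H)).card = charDegree χ.1 := by
    have h1 : (Ef p (⟨z, hzH⟩ : ↥H)).card ≤ charDegree χ.1 := hle
    omega
  obtain ⟨hd1, hd0⟩ := Cfsg.Agent.Lib.Helper82.irr_charDegree χ
  obtain ⟨hES, ζ', hζ', hval⟩ := local_val p (⟨z, hzH⟩ : ↥H) hzo (fun h : ↥H => χ.1 h)
    (charDegree χ.1) hd1.symm hdeg ζ hζ a u₀ hu₀ ha hst hW hEfH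
  have hvalG : ∀ t : ZMod p, χ.1 (z ^ t.val) = eta p ζ' t := by
    intro t
    have h1 := hval t
    have h2 : (((⟨z, hzH⟩ : ↥H) ^ t.val : ↥H) : G) = z ^ t.val := by
      rw [Subgroup.coe_pow]
    have h3 : χ.1 (((⟨z, hzH⟩ : ↥H) ^ t.val : ↥H) : G) = eta p ζ' t := h1
    rwa [h2] at h3
  refine ⟨z, ζ', hz, hζ', ?_, hvalG⟩
  intro k
  constructor
  · intro hc
    obtain ⟨c, hc'⟩ := isConj_iff.mp hc
    have hk0 : k ≠ 0 := by
      intro h0
      rw [h0, ZMod.val_zero, pow_zero, mul_one, mul_inv_cancel] at hc'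
      exact hz1 hc'.symm
    have h1 : χ.1 (z ^ k.val) = χ.1 z := by
      have h0 := hcf (z ^ k.val) c
      rw [hc'] at h0
      exact h0.symm
    have h2 : χ.1 z = eta p ζ' 1 := by
      have := hvalG 1
      rwa [ZMod.val_one, pow_one] at this
    rw [hvalG k, h2] at h1
    exact hpl_eta_inj p hp2 ζ' hζ' k hk0 h1
  · intro hk
    rw [← hES] at hk
    have hk' : IsConj ((⟨z, hzH⟩ : ↥H) ^ k.val) (⟨z, hzH⟩ : ↥H) := by
      simpa [Ef] using hk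
    obtain ⟨c, hc⟩ := isConj_iff.mp hk'
    have h1 := congrArg (fun x : ↥H => (x : G)) hc
    have h2 : (c : G) * z ^ k.val * (c : G)⁻¹ = z := by
      simpa using h1
    exact isConj_iff.mpr ⟨(c : G), h2⟩

end Cfsg.Agent.Lib.Helper4.HPT
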