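import Mathlib
import Cfsg.Agent.Lib.Helper4.HPLOCAUX
import Cfsg.Agent.Lib.Helper58.HPIRR

/-!
# S4504 piece HP-LOCAL (helper4): `hp_local`

Sub-pieces: `step1a'` (`HPLOCS1A`), `step1b'` (`HPLOCS1B`), `core'` (`HPLOCCORE`), `local_ncl`
(helper16), `local_val` (helper39), assembly `hp_local_of_irr` (`HPLOCAUX`), and the piece IRR
(helper58).
-/

set_option autoImplicit false

namespace Cfsg.Agent.Lib.Helper4.HPT

open Cfsg Cfsg.Agent.Lib.Helper22.BFD Cfsg.Agent.Lib.Helper22.HPD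
open scoped ComplexConjugate

universe u

/-- TOP PIECE LOCAL -/
theorem hp_local {G : Type u} [Group G] [Fintype G] (p : ℕ) [Fact p.Prime]
    (hdiv : p ∣ Nat.card G) (hsq : ¬ p ^ 2 ∣ Nat.card G)
    (hnn : ∀ H : Subgroup G, H.Normal → Nat.card H ≠ p)
    (χ : IrrCharacter G) (hfaith : ∀ g : G, χ.1 g = χ.1 1 → g = 1)
    (hdeg : 2 * charDegree χ.1 + 1 = p) :
    ∃ (z : G) (ζ : ℂ), orderOf z = p ∧ IsPrimitiveRoot ζ p ∧
      (∀ k : ZMod p, IsConj (z ^ k.val) z ↔ k ∈ Sq p) ∧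
      (∀ t : ZMod p, χ.1 (z ^ t.val) = eta p ζ t) := by
  have hp : p.Prime := Fact.out
  exact hp_local_of_irr p
    (fun H _ _ hd hs hn ψ hψ hf hdg =>
      (Cfsg.Agent.Lib.Helper58.HPT.hp_irr p hp hd hs hn ψ hψ hf hdg).1)
    hdiv hsq hnn χ hfaith hdeg

end Cfsg.Agent.Lib.Helper4.HPT
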