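import Mathlib
import Cfsg.Agent.Lib.Helper15.BG13CDefs
import Cfsg.Agent.S0025

/-! B&G Corollary 13.3(b) (row S1428, project of helper15): piece C-PICK. -/

set_option autoImplicit false

open Cfsg Cfsg.Agent.Lib.Helper32 Cfsg.Agent.Lib.Helper32.BG10 Cfsg.Agent.Lib.Helper3.BG12

namespace Cfsg.Agent.Lib.Helper15.BG13C

universe u

variable {G : Type u} [Group G] [Finite G]

/-- PICK: a Sylow subgroup that is not centralized -/
theorem pick : PickStmt G := by
  intro Y R hRp hRY hcop hnc
  by_contra hcon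
  push Not at hcon
  apply hnc
  have hRsolv : Group.IsSolvable R := by
    have hfact : Fact (Nat.card R).Prime := ⟨hRp⟩
    have hcyc : IsCyclic R := isCyclic_of_prime_card (α := R) rfl
    exact Group.isSolvable_of_comm (fun a b => by
      let _ := IsCyclic.commGroup (α := R); exact mul_comm a b)
  have hCY : Y ⊓ Subgroup.centralizer (R : Set G) ≤ Y := inf_le_left
  have hY0 : Nat.card Y ≠ 0 := Nat.card_pos.ne'
  have hC0 : Nat.card ↥(Y ⊓ Subgroup.centralizer (R : Set G)) ≠ 0 := Nat.card_pos.ne'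
  have hdvd : Nat.card Y ∣ Nat.card ↥(Y ⊓ Subgroup.centralizer (R : Set G)) := by
    rw [← Nat.factorization_prime_le_iff_dvd hY0 hC0]
    intro q hq
    have hfq : Fact q.Prime := ⟨hq⟩
    obtain ⟨P, -, hPR⟩ := Cfsg.Agent.S0025.result R Y hRY hcop (Or.inl hRsolv) q ⊥ bot_le
      IsPGroup.of_bot
      (fun r _ => Subgroup.mem_normalizer_iff.2 (fun n => by simp [Subgroup.mem_bot]))
    have hQ : (P : Subgroup Y).map Y.subtype ∈ sylSet q Y := mem_sylSet_of_sylow P
    have hcen : R ≤ Subgroup.centralizer (((P : Subgroup Y).map Y.subtype : Subgroup G) : Set G) :=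
      hcon q hfq _ hQ hPR
    have hQC : (P : Subgroup Y).map Y.subtype ≤ Y ⊓ Subgroup.centralizer (R : Set G) := by
      refine le_inf hQ.1 ?_
      intro x hx
      rw [Subgroup.mem_centralizer_iff]
      intro r hr
      have := Subgroup.mem_centralizer_iff.1 (hcen hr) x hx
      exact this.symm
    have hd := Subgroup.card_dvd_of_le hQC
    rw [hQ.2] at hd
    exact (hq.pow_dvd_iff_le_factorization hC0).1 hd
  have hEq : Y ⊓ Subgroup.centralizer (R : Set G) = Y :=
    Subgroup.eq_of_le_of_card_ge hCY (Nat.le_of_dvd Nat.card_pos hdvd)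
  intro r hr
  rw [Subgroup.mem_centralizer_iff]
  intro y hy
  have hy' : y ∈ Y ⊓ Subgroup.centralizer (R : Set G) := by rw [hEq]; exact hy
  have := Subgroup.mem_centralizer_iff.1 hy'.2 r hr
  exact this.symm

end Cfsg.Agent.Lib.Helper15.BG13C
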