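import Cfsg.Agent.Lib.Helper4.BrDescent
import Cfsg.Agent.Lib.Helper5.CharInt

set_option autoImplicit false

open Module Representation
open scoped ComplexConjugate

namespace Cfsg.Agent.Lib.Helper4

section Elementary

/-- Subgroups of `p`-elementary groups are `p`-elementary. -/
theorem isElementary_subgroup {p : ℕ} (hp : p.Prime) {E : Type*} [Group E] [Finite E]
    (hE : IsElementary p E) (K : Subgroup E) : IsElementary p K := by
  obtain ⟨x, hxc, hxo, k, hk⟩ := hE
  have hCn : (Subgroup.zpowers x).Normal := by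
    constructor
    intro n hn g
    have : g * n * g⁻¹ = n := by
      obtain ⟨j, rfl⟩ := Subgroup.mem_zpowers_iff.mp hn
      have h1 : g * x = x * g := Subgroup.mem_center_iff.mp hxc g
      have h2 : g * x ^ j = x ^ j * g := ((show Commute g x from h1).zpow_right j).eq
      rw [h2, mul_inv_cancel_right]
    rw [this]; exact hn
  let D : Subgroup K := (Subgroup.zpowers x).subgroupOf K
  let f : D →* Subgroup.zpowers x :=
    { toFun := fun d => ⟨(d : K), Subgroup.mem_subgroupOf.mp d.2⟩
      map_one' := rfl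
      map_mul' := fun _ _ => rfl }
  have hf : Function.Injective f := by
    intro a b hab
    apply Subtype.ext
    apply Subtype.ext
    exact congrArg (fun z : Subgroup.zpowers x => (z : E)) hab
  have hcyc : IsCyclic D := isCyclic_of_injective f hf
  obtain ⟨g₀, hg₀⟩ := IsCyclic.exists_generator (α := D)
  have hzp : Subgroup.zpowers (g₀ : K) = D := by
    ext y
    constructor
    · intro hy
      obtain ⟨j, rfl⟩ := Subgroup.mem_zpowers_iff.mp hy
      exact D.zpow_mem g₀.2 j
    · intro hy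
      obtain ⟨j, hj⟩ := Subgroup.mem_zpowers_iff.mp (hg₀ ⟨y, hy⟩)
      rw [Subgroup.mem_zpowers_iff]
      refine ⟨j, ?_⟩
      have := congrArg (fun d : D => (d : K)) hj
      simpa using this
  have hmem : ((g₀ : K) : E) ∈ Subgroup.zpowers x := Subgroup.mem_subgroupOf.mp g₀.2
  refine ⟨(g₀ : K), ?_, ?_, ?_⟩
  · rw [Subgroup.mem_center_iff]
    intro h
    apply Subtype.ext
    rw [Subgroup.coe_mul, Subgroup.coe_mul]
    obtain ⟨j, hj⟩ := Subgroup.mem_zpowers_iff.mp hmem
    rw [← hj]
    have h1 : (h : E) * x = x * (h : E) := Subgroup.mem_center_iff.mp hxc h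
    exact ((show Commute (h : E) x from h1).zpow_right j).eq
  · rw [← Subgroup.orderOf_coe]
    exact Nat.Coprime.coprime_dvd_left (orderOf_dvd_of_mem_zpowers hmem) hxo
  · rw [hzp]
    have h1 : (Subgroup.zpowers x).relIndex K ∣ (Subgroup.zpowers x).index :=
      Subgroup.relIndex_dvd_index_of_normal (Subgroup.zpowers x) K
    rw [hk] at h1
    obtain ⟨j, -, hj⟩ := (Nat.dvd_prime_pow hp).mp h1
    exact ⟨j, hj⟩

/-- `p`-elementary is invariant under isomorphism. -/
theorem isElementary_of_equiv {p : ℕ} {E E' : Type*} [Group E] [Group E'] (e : E ≃* E')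
    (hE : IsElementary p E) : IsElementary p E' := by
  obtain ⟨x, hxc, hxo, k, hk⟩ := hE
  refine ⟨e x, ?_, ?_, k, ?_⟩
  · rw [Subgroup.mem_center_iff]
    intro h
    obtain ⟨h', rfl⟩ := e.surjective h
    rw [← map_mul, ← map_mul, Subgroup.mem_center_iff.mp hxc h']
  · rw [MulEquiv.orderOf_eq]; exact hxo
  · have : Subgroup.zpowers (e x) = (Subgroup.zpowers x).map (e : E →* E') := by
      rw [MonoidHom.map_zpowers]; rfl
    rw [this, Subgroup.index_map_equiv, hk]

end Elementary

section Degree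

variable {E : Type*} [Group E] [Finite E]

/-- Irreducible characters of `p`-elementary groups have `p`-power degree. -/
theorem irr_degree_elementary {p : ℕ} (hp : p.Prime) (hE : IsElementary p E)
    (χ : IrrCharacter E) : ∃ j : ℕ, (χ : E → ℂ) 1 = ((p ^ j : ℕ) : ℂ) := by
  obtain ⟨m, ρ, hρ, hχ⟩ := χ.2
  obtain ⟨x, hxc, hxo, k, hk⟩ := hE
  have h1 : finrank ℂ (Fin m → ℂ) ∣ (Subgroup.center E).index :=
    Cfsg.Agent.Lib.Helper5.finrank_dvd_index_center ρ
  have h2 : (Subgroup.center E).index ∣ (Subgroup.zpowers x).index :=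
    Subgroup.index_dvd_of_le (by
      rw [Subgroup.zpowers_le]; exact hxc)
  rw [hk] at h2
  obtain ⟨j, -, hj⟩ := (Nat.dvd_prime_pow hp).mp (h1.trans h2)
  refine ⟨j, ?_⟩
  rw [← hχ, Representation.char_one, hj]

end Degree

section Twist

variable {E : Type*} [Group E] [Fintype E]

theorem lin_mul_conj (l : E →* ℂˣ) (g : E) : (l g : ℂ) * conj (l g : ℂ) = 1 := by
  have h1 : (l g : ℂ) ^ Nat.card E = 1 := by
    have : (l g) ^ Nat.card E = 1 := by
      rw [← map_pow, pow_card_eq_one', map_one]
    have := congrArg (fun u : ℂˣ => (u : ℂ)) this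
    simpa using this
  have h2 : ‖(l g : ℂ)‖ = 1 :=
    Complex.norm_eq_one_of_pow_eq_one h1 (Nat.card_pos (α := E)).ne'
  rw [Complex.mul_conj, Complex.normSq_eq_norm_sq, h2]
  simp

/-- The product of a linear character with an irreducible character is irreducible. -/
theorem isIrrCharacter_lin_mul (l : E →* ℂˣ) (χ : IrrCharacter E) :
    IsIrrCharacter E (fun g => (l g : ℂ) * (χ : E → ℂ) g) := by
  have hfin : Finite (IrrCharacter E) := irr_finite
  let _ : Fintype (IrrCharacter E) := Fintype.ofFinite _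
  apply isIrrCharacter_of_norm_one
  · exact isCharacter_mul _ _ (isCharacter_of_irr ⟨_, isIrrCharacter_lin l⟩) (isCharacter_of_irr χ)
  · have h1 := classInner_irr χ χ
    rw [if_pos rfl] at h1
    rw [← h1]
    show (Nat.card E : ℂ)⁻¹ * ∑ g : E, ((l g : ℂ) * (χ : E → ℂ) g) *
        conj ((l g : ℂ) * (χ : E → ℂ) g) =
      (Nat.card E : ℂ)⁻¹ * ∑ g : E, (χ : E → ℂ) g * conj ((χ : E → ℂ) g)
    congr 1
    refine Finset.sum_congr rfl (fun g _ => ?_)
    rw [map_mul]
    calc (l g : ℂ) * (χ : E → ℂ) g * (conj (l g : ℂ) * conj ((χ : E → ℂ) g))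
        = ((l g : ℂ) * conj (l g : ℂ)) * ((χ : E → ℂ) g * conj ((χ : E → ℂ) g)) := by ring
      _ = _ := by rw [lin_mul_conj, one_mul]

end Twist

end Cfsg.Agent.Lib.Helper4
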