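import Cfsg.Agent.Lib.Helper4.BrMono

set_option autoImplicit false

open Module Representation
open scoped ComplexConjugate

namespace Cfsg.Agent.Lib.Helper4

section

variable {E : Type*} [Group E] [Fintype E]

/-- A nonlinear irreducible character of an elementary group is fixed by multiplication with a
nontrivial linear character. -/
theorem exists_lin_stab {p : ℕ} (hp : p.Prime) (hE : IsElementary p E) (χ : IrrCharacter E)
    (h1 : (χ : E → ℂ) 1 ≠ 1) :
    ∃ l : E →* ℂˣ, l ≠ 1 ∧ ∀ g, (l g : ℂ) * (χ : E → ℂ) g = (χ : E → ℂ) g := by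
  classical
  have hfin : Finite (IrrCharacter E) := irr_finite
  let _ : Fintype (IrrCharacter E) := Fintype.ofFinite _
  have hΘ : IsCharacter E ((χ : E → ℂ) * fun g => conj ((χ : E → ℂ) g)) :=
    isCharacter_mul _ _ (isCharacter_of_irr χ) (isCharacter_conj _ (isCharacter_of_irr χ))
  obtain ⟨m, hm⟩ := exists_decomp_of_isCharacter _ hΘ
  choose d hd using fun ξ : IrrCharacter E => irr_degree_elementary hp hE ξ
  have hj0 : d χ ≠ 0 := by
    intro h0
    apply h1
    rw [hd χ, h0]; simp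
  -- evaluate at 1
  have hval : p ^ d χ * p ^ d χ = ∑ ξ : IrrCharacter E, m ξ * p ^ d ξ := by
    have h2 := congrFun hm 1
    rw [Pi.mul_apply, Finset.sum_apply] at h2
    have h3 : ∀ ξ : IrrCharacter E, ((m ξ : ℂ) • (ξ : E → ℂ)) 1 = ((m ξ * p ^ d ξ : ℕ) : ℂ) := by
      intro ξ
      rw [Pi.smul_apply, hd ξ, smul_eq_mul]
      push_cast
      ring
    rw [Finset.sum_congr rfl (fun ξ _ => h3 ξ), hd χ] at h2
    have h4 : ((p ^ d χ : ℕ) : ℂ) * conj ((p ^ d χ : ℕ) : ℂ) = ((p ^ d χ * p ^ d χ : ℕ) : ℂ) := by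
      rw [Complex.conj_natCast]; push_cast; ring
    rw [h4, ← Nat.cast_sum] at h2
    exact_mod_cast h2
  -- the trivial character
  have htriv0 : d (trivIrr : IrrCharacter E) = 0 := by
    have h2 := hd (trivIrr : IrrCharacter E)
    rw [trivIrr_apply] at h2
    have h3 : p ^ d (trivIrr : IrrCharacter E) = 1 := by exact_mod_cast h2.symm
    rcases Nat.pow_eq_one.mp h3 with h | h
    · exact absurd h hp.one_lt.ne'
    · exact h
  have hmtriv : m (trivIrr : IrrCharacter E) = 1 := by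
    have h2 : classInner ((χ : E → ℂ) * fun g => conj ((χ : E → ℂ) g))
        ((trivIrr : IrrCharacter E) : E → ℂ) = (m trivIrr : ℂ) := by
      rw [hm]; exact classInner_sum_irr _ _
    have h3 : classInner ((χ : E → ℂ) * fun g => conj ((χ : E → ℂ) g))
        ((trivIrr : IrrCharacter E) : E → ℂ) = classInner (χ : E → ℂ) (χ : E → ℂ) := by
      show (Nat.card E : ℂ)⁻¹ * ∑ g : E, ((χ : E → ℂ) g * conj ((χ : E → ℂ) g)) * conj (1 : ℂ) =
        (Nat.card E : ℂ)⁻¹ * ∑ g : E, (χ : E → ℂ) g * conj ((χ : E → ℂ) g)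
      simp
    rw [h3, classInner_irr, if_pos rfl] at h2
    exact_mod_cast h2.symm
  -- the count
  have hdvd : p ∣ ∑ ξ ∈ Finset.univ.filter (fun ξ : IrrCharacter E => d ξ = 0), m ξ := by
    have h2 : p ∣ ∑ ξ : IrrCharacter E, m ξ * p ^ d ξ := by
      rw [← hval]
      exact Dvd.dvd.mul_left (dvd_pow_self p hj0) _
    rw [← Finset.sum_filter_add_sum_filter_not Finset.univ (fun ξ : IrrCharacter E => d ξ = 0)] at h2
    have h3 : p ∣ ∑ ξ ∈ Finset.univ.filter (fun ξ : IrrCharacter E => ¬ d ξ = 0), m ξ * p ^ d ξ := by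
      apply Finset.dvd_sum
      intro ξ hξ
      rw [Finset.mem_filter] at hξ
      exact Dvd.dvd.mul_left (dvd_pow_self p hξ.2) _
    have h4 := (Nat.dvd_add_left h3).mp h2
    have h5 : ∑ ξ ∈ Finset.univ.filter (fun ξ : IrrCharacter E => d ξ = 0), m ξ * p ^ d ξ =
        ∑ ξ ∈ Finset.univ.filter (fun ξ : IrrCharacter E => d ξ = 0), m ξ := by
      refine Finset.sum_congr rfl (fun ξ hξ => ?_)
      rw [Finset.mem_filter] at hξ
      rw [hξ.2, pow_zero, mul_one]
    rwa [h5] at h4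
  have hex : ∃ ξ : IrrCharacter E, d ξ = 0 ∧ ξ ≠ trivIrr ∧ m ξ ≠ 0 := by
    by_contra hcon
    push Not at hcon
    have h2 : ∑ ξ ∈ Finset.univ.filter (fun ξ : IrrCharacter E => d ξ = 0), m ξ = 1 := by
      rw [Finset.sum_eq_single (trivIrr : IrrCharacter E), hmtriv]
      · intro ξ hξ hne
        rw [Finset.mem_filter] at hξ
        exact hcon ξ hξ.2 hne
      · intro h
        exact absurd (Finset.mem_filter.mpr ⟨Finset.mem_univ (trivIrr : IrrCharacter E), htriv0⟩) h
    rw [h2] at hdvd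
    exact hp.one_lt.ne' (Nat.dvd_one.mp hdvd)
  obtain ⟨ξ, hξ0, hξne, hmξ⟩ := hex
  have hξ1 : (ξ : E → ℂ) 1 = 1 := by rw [hd ξ, hξ0]; simp
  obtain ⟨l, hl⟩ := linToIrr_bijective.2 ⟨ξ, hξ1⟩
  have hξl : (ξ : E → ℂ) = fun g => (l g : ℂ) := by
    have := congrArg (fun z : {χ : IrrCharacter E // (χ : E → ℂ) 1 = 1} => (z.1 : E → ℂ)) hl
    exact this.symm
  refine ⟨l, ?_, ?_⟩
  · intro hl1
    apply hξne
    apply Subtype.ext
    rw [hξl, hl1]
    rfl
  · let χ' : IrrCharacter E := ⟨_, isIrrCharacter_lin_mul l χ⟩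
    have h2 : classInner ((χ : E → ℂ) * fun g => conj ((χ : E → ℂ) g)) (ξ : E → ℂ) = (m ξ : ℂ) := by
      rw [hm]; exact classInner_sum_irr _ _
    have h3 : classInner ((χ : E → ℂ) * fun g => conj ((χ : E → ℂ) g)) (ξ : E → ℂ) =
        classInner (χ : E → ℂ) (χ' : E → ℂ) := by
      rw [hξl]
      show (Nat.card E : ℂ)⁻¹ * ∑ g : E, ((χ : E → ℂ) g * conj ((χ : E → ℂ) g)) * conj (l g : ℂ) =
        (Nat.card E : ℂ)⁻¹ * ∑ g : E, (χ : E → ℂ) g * conj ((l g : ℂ) * (χ : E → ℂ) g)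
      congr 1
      refine Finset.sum_congr rfl (fun g _ => ?_)
      rw [map_mul]; ring
    rw [h3, classInner_irr] at h2
    have h4 : χ = χ' := by
      by_contra hne
      rw [if_neg hne] at h2
      exact hmξ (by exact_mod_cast h2.symm)
    intro g
    have := congrArg (fun z : IrrCharacter E => (z : E → ℂ) g) h4
    exact this.symm

/-- ... and the linear character can be chosen of prime order. -/
theorem exists_lin_stab_prime {p : ℕ} (hp : p.Prime) (hE : IsElementary p E) (χ : IrrCharacter E)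
    (h1 : (χ : E → ℂ) 1 ≠ 1) :
    ∃ (μ : E →* ℂˣ) (r : ℕ), r.Prime ∧ orderOf μ = r ∧
      ∀ g, (μ g : ℂ) * (χ : E → ℂ) g = (χ : E → ℂ) g := by
  obtain ⟨l, hl1, hl⟩ := exists_lin_stab hp hE χ h1
  have hpow : l ^ Nat.card E = 1 := by
    ext g
    rw [MonoidHom.pow_apply, ← map_pow, pow_card_eq_one', map_one]
    rfl
  have hord0 : orderOf l ≠ 0 := by
    have : IsOfFinOrder l := isOfFinOrder_iff_pow_eq_one.mpr ⟨Nat.card E, Nat.card_pos, hpow⟩
    exact (orderOf_pos_iff.mpr this).ne'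
  have hord1 : orderOf l ≠ 1 := by
    intro h
    exact hl1 (orderOf_eq_one_iff.mp h)
  refine ⟨l ^ (orderOf l / (orderOf l).minFac), (orderOf l).minFac, Nat.minFac_prime hord1,
    orderOf_pow_orderOf_div hord0 (Nat.minFac_dvd _), ?_⟩
  intro g
  have key : ∀ k : ℕ, (l g : ℂ) ^ k * (χ : E → ℂ) g = (χ : E → ℂ) g := by
    intro k
    induction k with
    | zero => simp
    | succ k ih =>
      rw [pow_succ, mul_assoc, hl g, ih]
  rw [MonoidHom.pow_apply, Units.val_pow_eq_pow_val]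
  exact key _

omit [Fintype E] in
/-- The kernel of a linear character of prime order `r` has index `r`. -/
theorem index_ker_of_orderOf_prime (μ : E →* ℂˣ) (r : ℕ) (hr : r.Prime) (hμ : orderOf μ = r) :
    μ.ker.index = r := by
  have : NeZero r := ⟨hr.ne_zero⟩
  rw [Subgroup.index_ker]
  have hle : μ.range ≤ rootsOfUnity r ℂ := by
    rintro _ ⟨g, rfl⟩
    rw [mem_rootsOfUnity]
    have : μ ^ r = 1 := by rw [← hμ]; exact pow_orderOf_eq_one μ
    have h2 := congrArg (fun f : E →* ℂˣ => f g) this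
    simpa using h2
  have hdvd : Nat.card μ.range ∣ r := by
    have := Subgroup.card_dvd_of_le hle
    rwa [Complex.card_rootsOfUnity] at this
  rcases (Nat.dvd_prime hr).mp hdvd with h | h
  · exfalso
    have hbot : μ.range = ⊥ := Subgroup.card_eq_one.mp h
    have hμ1 : μ = 1 := by
      ext g
      have : μ g ∈ μ.range := ⟨g, rfl⟩
      rw [hbot, Subgroup.mem_bot] at this
      rw [this]; rfl
    rw [hμ1, orderOf_one] at hμ
    exact hr.one_lt.ne' hμ.symm
  · exact h

end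

end Cfsg.Agent.Lib.Helper4
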