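import Cfsg.Agent.Lib.Helper4.BrMono2

set_option autoImplicit false

open Module Representation
open scoped ComplexConjugate

namespace Cfsg.Agent.Lib.Helper4

/-- Composition of an irreducible character with an isomorphism is irreducible. -/
theorem isIrrCharacter_comp_equiv {A B : Type*} [Group A] [Group B] [Fintype A] [Fintype B]
    (e : A ≃* B) (χ : IrrCharacter B) : IsIrrCharacter A (fun a => (χ : B → ℂ) (e a)) := by
  have hfin : Finite (IrrCharacter A) := irr_finite
  let _ : Fintype (IrrCharacter A) := Fintype.ofFinite _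
  apply isIrrCharacter_of_norm_one
  · exact isCharacter_comp e.toMonoidHom _ (isCharacter_of_irr χ)
  · have h1 := classInner_irr χ χ
    rw [if_pos rfl] at h1
    rw [← h1]
    show (Nat.card A : ℂ)⁻¹ * ∑ a : A, (χ : B → ℂ) (e a) * conj ((χ : B → ℂ) (e a)) =
      (Nat.card B : ℂ)⁻¹ * ∑ b : B, (χ : B → ℂ) b * conj ((χ : B → ℂ) b)
    rw [Nat.card_congr e.toEquiv]
    congr 1
    exact Equiv.sum_comp e.toEquiv (fun b => (χ : B → ℂ) b * conj ((χ : B → ℂ) b))

section

variable {E : Type*} [Group E] [Fintype E]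

theorem indFun_restrict_of_vanish (K : Subgroup E) [K.Normal] (φ : E → ℂ)
    (hφ : IsClassFunction E φ) (hvan : ∀ g, g ∉ K → φ g = 0) :
    indFun K (fun k : K => φ k) = (K.index : ℂ) • φ := by
  classical
  ext g
  rw [indFun_apply, Pi.smul_apply, smul_eq_mul]
  have hterm : ∀ x : E, extendByZero K (fun k : K => φ k) (x⁻¹ * g * x) = φ g := by
    intro x
    have hcf : φ (x⁻¹ * g * x) = φ g := by
      have := hφ g x⁻¹
      rwa [inv_inv] at this
    by_cases hx : x⁻¹ * g * x ∈ K
    · rw [extendByZero_apply_mem' K _ hx]; exact hcf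
    · rw [extendByZero_apply_not_mem K _ hx, ← hcf, hvan _ hx]
  rw [Finset.sum_congr rfl (fun x _ => hterm x), Finset.sum_const, Finset.card_univ, nsmul_eq_mul]
  have h1 : (Fintype.card E : ℂ) = (Nat.card K : ℂ) * (K.index : ℂ) := by
    rw [← Nat.card_eq_fintype_card, ← K.card_mul_index]; push_cast; ring
  rw [h1]
  have : (Nat.card K : ℂ) ≠ 0 := by exact_mod_cast (Nat.card_pos (α := K)).ne'
  field_simp

/-- The norm of a character induced from an irreducible character of a normal subgroup is the
index of the subgroup in its inertia group. -/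
theorem classInner_indFun_self_normal (K : Subgroup E) [K.Normal] [Fintype K]
    (θ : IrrCharacter K) : ∃ T : Subgroup E, K ≤ T ∧
      classInner (indFun K (θ : K → ℂ)) (indFun K (θ : K → ℂ)) = (K.relIndex T : ℂ) := by
  classical
  let cθ : E → K → ℂ := fun x k => (θ : K → ℂ) (MulAut.conjNormal x⁻¹ k)
  have hcθirr : ∀ x, IsIrrCharacter K (cθ x) := fun x =>
    isIrrCharacter_comp_equiv (MulAut.conjNormal x⁻¹ : K ≃* K) θ
  let T : Subgroup E :=
    { carrier := {x | cθ x = (θ : K → ℂ)}
      one_mem' := by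
        show cθ 1 = (θ : K → ℂ)
        funext k
        show (θ : K → ℂ) (MulAut.conjNormal (1 : E)⁻¹ k) = _
        rw [inv_one, map_one]; rfl
      mul_mem' := by
        intro x y hx hy
        show cθ (x * y) = (θ : K → ℂ)
        funext k
        have e1 : cθ (x * y) k = cθ y (MulAut.conjNormal x⁻¹ k) := by
          show (θ : K → ℂ) (MulAut.conjNormal (x * y)⁻¹ k) =
            (θ : K → ℂ) (MulAut.conjNormal y⁻¹ (MulAut.conjNormal x⁻¹ k))
          rw [mul_inv_rev, map_mul]; rfl
        rw [e1, show cθ y = (θ : K → ℂ) from hy]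
        exact congrFun (show cθ x = (θ : K → ℂ) from hx) k
      inv_mem' := by
        intro x hx
        show cθ x⁻¹ = (θ : K → ℂ)
        funext k
        have e1 := congrFun (show cθ x = (θ : K → ℂ) from hx) (MulAut.conjNormal x k)
        have e2 : cθ x (MulAut.conjNormal x k) = (θ : K → ℂ) k := by
          show (θ : K → ℂ) (MulAut.conjNormal x⁻¹ (MulAut.conjNormal x k)) = _
          rw [map_inv]
          simp
        rw [e2] at e1
        show (θ : K → ℂ) (MulAut.conjNormal x⁻¹⁻¹ k) = _
        rw [inv_inv]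
        exact e1.symm }
  have hT : ∀ x, x ∈ T ↔ cθ x = (θ : K → ℂ) := fun x => Iff.rfl
  have hKT : K ≤ T := by
    intro x hx
    rw [hT]
    funext k
    have h1 : MulAut.conjNormal x⁻¹ k = (⟨x, hx⟩ : K)⁻¹ * k * (⟨x, hx⟩ : K)⁻¹⁻¹ := by
      apply Subtype.ext
      rw [MulAut.conjNormal_apply]
      simp
    show (θ : K → ℂ) (MulAut.conjNormal x⁻¹ k) = _
    rw [h1]
    exact isClassFunction_irr θ k _
  refine ⟨T, hKT, ?_⟩
  have hcardK : (Nat.card K : ℂ) ≠ 0 := by exact_mod_cast (Nat.card_pos (α := K)).ne'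
  -- restriction of the induced function
  have hres : (fun k : K => indFun K (θ : K → ℂ) k) =
      (Nat.card K : ℂ)⁻¹ • ∑ x : E, cθ x := by
    funext k
    rw [indFun_apply, Pi.smul_apply, Finset.sum_apply, smul_eq_mul]
    congr 1
    refine Finset.sum_congr rfl (fun x _ => ?_)
    have hmem : x⁻¹ * (k : E) * x ∈ K := by
      have := (inferInstance : K.Normal).conj_mem (k : E) k.2 x⁻¹
      rwa [inv_inv] at this
    rw [extendByZero_apply_mem' K _ hmem]
    have hh : (⟨x⁻¹ * (k : E) * x, hmem⟩ : K) = MulAut.conjNormal x⁻¹ k :=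
      Subtype.ext (by rw [MulAut.conjNormal_apply, inv_inv])
    rw [hh]
  rw [frobenius_reciprocity K (θ : K → ℂ) _ (isClassFunction_indFun K _), hres,
    classInner_conj_symm, ← innerL_apply, map_smul, map_sum]
  have hterm : ∀ x : E, innerL (θ : K → ℂ) (cθ x) = if x ∈ T then 1 else 0 := by
    intro x
    rw [innerL_apply]
    have := classInner_irr (⟨cθ x, hcθirr x⟩ : IrrCharacter K) θ
    rw [this]
    by_cases hx : x ∈ T
    · rw [if_pos hx, if_pos]
      exact Subtype.ext ((hT x).mp hx)
    · rw [if_neg hx, if_neg]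
      intro h
      exact hx ((hT x).mpr (congrArg Subtype.val h))
  rw [Finset.sum_congr rfl (fun x _ => hterm x), Finset.sum_ite, Finset.sum_const,
    Finset.sum_const_zero, add_zero, nsmul_eq_mul, mul_one]
  have hcardT : (Finset.univ.filter (fun x : E => x ∈ T)).card = Nat.card T := by
    rw [Nat.card_eq_fintype_card, Fintype.card_subtype]
  have hTK : Nat.card T = Nat.card K * K.relIndex T := by
    have h1 := (K.subgroupOf T).card_mul_index
    have h2 : Nat.card (K.subgroupOf T) = Nat.card K :=
      Nat.card_congr (Subgroup.subgroupOfEquivOfLe hKT).toEquiv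
    rw [h2] at h1
    exact h1.symm
  rw [hcardT, hTK]
  simp only [smul_eq_mul, map_mul, map_inv₀, Complex.conj_natCast, Nat.cast_mul]
  field_simp

end

end Cfsg.Agent.Lib.Helper4
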