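import Cfsg.Agent.Lib.Helper4.BrMono3

set_option autoImplicit false

open Module Representation
open scoped ComplexConjugate

namespace Cfsg.Agent.Lib.Helper4

section

variable {E : Type*} [Group E] [Fintype E]

/-- An irreducible character vanishing off a normal subgroup of prime index is induced from an
irreducible character of that subgroup. -/
theorem exists_ind_of_vanish (K : Subgroup E) [K.Normal] [Fintype K] (r : ℕ) (hr : r.Prime)
    (hidx : K.index = r) (χ : IrrCharacter E) (hvan : ∀ g, g ∉ K → (χ : E → ℂ) g = 0) :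
    ∃ θ : IrrCharacter K, (χ : E → ℂ) = indFun K (θ : K → ℂ) := by
  classical
  have hfinE : Finite (IrrCharacter E) := irr_finite
  let _ : Fintype (IrrCharacter E) := Fintype.ofFinite _
  have hfinK : Finite (IrrCharacter K) := irr_finite
  let _ : Fintype (IrrCharacter K) := Fintype.ofFinite _
  have hχK : IsCharacter K (fun k : K => (χ : E → ℂ) k) :=
    isCharacter_restrict K χ (isCharacter_of_irr χ)
  obtain ⟨m, hm⟩ := exists_decomp_of_isCharacter _ hχK
  have hD1 : indFun K (fun k : K => (χ : E → ℂ) k) = (r : ℂ) • (χ : E → ℂ) := by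
    rw [indFun_restrict_of_vanish K χ (isClassFunction_irr χ) hvan, hidx]
  have hex : ∃ θ₀, m θ₀ ≠ 0 := by
    by_contra hcon
    push Not at hcon
    have h0 : (fun k : K => (χ : E → ℂ) k) = 0 := by
      rw [hm]
      simp [hcon]
    have h1 := congrFun h0 1
    exact irr_one_ne_zero χ (by simpa using h1)
  obtain ⟨θ₀, hθ₀⟩ := hex
  have hmult : ∀ θ : IrrCharacter K,
      classInner (indFun K (θ : K → ℂ)) (χ : E → ℂ) = (m θ : ℂ) := by
    intro θ
    rw [frobenius_reciprocity K _ _ (isClassFunction_irr χ), classInner_conj_symm, hm,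
      classInner_sum_irr]
    simp
  have hsum : ∑ θ : IrrCharacter K, (m θ : ℂ) • indFun K (θ : K → ℂ) = (r : ℂ) • (χ : E → ℂ) := by
    rw [← hD1, hm, indFun_sum]
    refine Finset.sum_congr rfl (fun θ _ => ?_)
    rw [indFun_smul]
  have hzero : ∀ ξ : IrrCharacter E, ξ ≠ χ →
      classInner (indFun K (θ₀ : K → ℂ)) (ξ : E → ℂ) = 0 := by
    intro ξ hξ
    choose kk hkk using fun θ : IrrCharacter K =>
      classInner_isCharacter_nat (indFun K (θ : K → ℂ))
        (isCharacter_indFun K _ (isCharacter_of_irr θ)) ξ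
    have h1 : ∑ θ : IrrCharacter K, (m θ : ℂ) * (kk θ : ℂ) = 0 := by
      have h2 := congrArg (fun F => innerL (ξ : E → ℂ) F) hsum
      simp only [map_sum, map_smul, innerL_apply, smul_eq_mul] at h2
      rw [classInner_irr, if_neg (Ne.symm hξ), mul_zero] at h2
      rw [← h2]
      refine Finset.sum_congr rfl (fun θ _ => ?_)
      rw [hkk θ]
    have h2 : ∑ θ : IrrCharacter K, m θ * kk θ = 0 := by exact_mod_cast h1
    have h3 := (Finset.sum_eq_zero_iff.mp h2) θ₀ (Finset.mem_univ _)
    rcases Nat.mul_eq_zero.mp h3 with h | h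
    · exact absurd h hθ₀
    · rw [hkk θ₀, h]; simp
  have hInd : indFun K (θ₀ : K → ℂ) = (m θ₀ : ℂ) • (χ : E → ℂ) := by
    rw [classFunction_expansion (indFun K (θ₀ : K → ℂ)) (isClassFunction_indFun K _)]
    rw [Finset.sum_eq_single χ]
    · rw [hmult θ₀]
    · intro ξ _ hξ
      rw [hzero ξ hξ, zero_smul]
    · intro h
      exact absurd (Finset.mem_univ _) h
  obtain ⟨T, hKT, hnorm⟩ := classInner_indFun_self_normal K θ₀
  have hnorm2 : classInner (indFun K (θ₀ : K → ℂ)) (indFun K (θ₀ : K → ℂ)) =
      ((m θ₀ * m θ₀ : ℕ) : ℂ) := by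
    rw [hInd, ← innerL_apply, map_smul, innerL_apply, classInner_conj_symm, ← innerL_apply,
      map_smul, innerL_apply, classInner_irr, if_pos rfl]
    simp
  have h5 : m θ₀ * m θ₀ = K.relIndex T := by
    rw [hnorm] at hnorm2
    exact_mod_cast hnorm2.symm
  have h6 : K.relIndex T ∣ r := by
    rw [← hidx]
    exact Subgroup.relIndex_dvd_index_of_le hKT
  have h7 : m θ₀ = 1 := by
    rcases (Nat.dvd_prime hr).mp h6 with h | h
    · rw [h] at h5
      exact Nat.eq_one_of_mul_eq_one_left h5
    · exfalso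
      rw [h] at h5
      have hm1 : m θ₀ ∣ r := ⟨m θ₀, h5.symm⟩
      rcases (Nat.dvd_prime hr).mp hm1 with h' | h'
      · rw [h'] at h5
        exact hr.one_lt.ne' (by omega)
      · rw [h'] at h5
        have hpos := hr.pos
        have hlt := hr.one_lt
        nlinarith
  refine ⟨θ₀, ?_⟩
  rw [hInd, h7]
  simp

theorem indFun_top (φ : E → ℂ) (hφ : IsClassFunction E φ) :
    indFun (⊤ : Subgroup E) (fun k : (⊤ : Subgroup E) => φ k) = φ := by
  rw [indFun_restrict_of_vanish ⊤ φ hφ (fun g hg => absurd (Subgroup.mem_top g) hg),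
    Subgroup.index_top]
  simp

theorem indFun_congr_subgroup (A B : Subgroup E) (h : A = B) (f : A → ℂ) (g : B → ℂ)
    (hfg : ∀ (a : E) (ha : a ∈ A) (hb : a ∈ B), f ⟨a, ha⟩ = g ⟨a, hb⟩) :
    indFun A f = indFun B g := by
  subst h
  congr 1
  funext a
  exact hfg a.1 a.2 a.2

/-- Transitivity of induction, for a subgroup of a subgroup. -/
theorem indFun_indFun (K : Subgroup E) [Fintype K] (K' : Subgroup K) (l : K' → ℂ) :
    indFun K (indFun K' l) =
      indFun (K'.map K.subtype) (fun h =>
        l ((K'.equivMapOfInjective K.subtype K.subtype_injective).symm h)) := by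
  have hle : K'.map K.subtype ≤ K := Subgroup.map_subtype_le K'
  rw [← indFun_trans (K'.map K.subtype) K hle]
  congr 1
  apply indFun_congr_subgroup
  · exact (Subgroup.comap_map_eq_self_of_injective K.subtype_injective K').symm
  · intro a ha hb
    congr 1
    rw [eq_comm, MulEquiv.symm_apply_eq]
    apply Subtype.ext
    rfl

end

end Cfsg.Agent.Lib.Helper4
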