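import Cfsg.Agent.Lib.Helper4.BrMono4

set_option autoImplicit false

open Module Representation
open scoped ComplexConjugate

universe u

namespace Cfsg.Agent.Lib.Helper4

/-- Irreducible characters of elementary groups are induced from linear characters. -/
theorem irr_monomial_elementary_aux {p : ℕ} (hp : p.Prime) :
    ∀ (N : ℕ) (E : Type u) [Group E] [Fintype E], Nat.card E = N → IsElementary p E →
      ∀ χ : IrrCharacter E, ∃ (K : Subgroup E) (l : K →* ℂˣ),
        (χ : E → ℂ) = indFun K (fun k => (l k : ℂ)) := by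
  intro N
  induction N using Nat.strong_induction_on with
  | _ N ih =>
  intro E _ _ hN hE χ
  classical
  by_cases h1 : (χ : E → ℂ) 1 = 1
  · obtain ⟨l, hl⟩ := linToIrr_bijective.2 ⟨χ, h1⟩
    have hχl : (χ : E → ℂ) = fun g => (l g : ℂ) := by
      have := congrArg (fun z : {χ : IrrCharacter E // (χ : E → ℂ) 1 = 1} => (z.1 : E → ℂ)) hl
      exact this.symm
    refine ⟨⊤, l.comp (⊤ : Subgroup E).subtype, ?_⟩
    have := indFun_top (χ : E → ℂ) (isClassFunction_irr χ)
    rw [← this]
    congr 1
    funext k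
    rw [hχl]
    rfl
  · obtain ⟨μ, r, hr, hμ, hstab⟩ := exists_lin_stab_prime hp hE χ h1
    have hidx : μ.ker.index = r := index_ker_of_orderOf_prime μ r hr hμ
    have hvan : ∀ g, g ∉ μ.ker → (χ : E → ℂ) g = 0 := by
      intro g hg
      have h2 : (μ g : ℂ) ≠ 1 := by
        intro h
        apply hg
        rw [MonoidHom.mem_ker]
        exact Units.ext h
      have h3 : ((μ g : ℂ) - 1) * (χ : E → ℂ) g = 0 := by
        rw [sub_mul, hstab g, one_mul, sub_self]
      rcases mul_eq_zero.mp h3 with h | h
      · exact absurd (sub_eq_zero.mp h) h2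
      · exact h
    obtain ⟨θ, hθ⟩ := exists_ind_of_vanish μ.ker r hr hidx χ hvan
    have hKel : IsElementary p μ.ker := isElementary_subgroup hp hE μ.ker
    have hlt : Nat.card μ.ker < N := by
      have h2 := μ.ker.card_mul_index
      rw [hidx, hN] at h2
      have h3 : 0 < Nat.card μ.ker := Nat.card_pos
      have h4 := hr.one_lt
      nlinarith
    obtain ⟨K', l', hl'⟩ := ih (Nat.card μ.ker) hlt μ.ker rfl hKel θ
    refine ⟨K'.map μ.ker.subtype, l'.comp
      ((K'.equivMapOfInjective μ.ker.subtype μ.ker.subtype_injective).symm : _ →* K'), ?_⟩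
    rw [hθ, hl', indFun_indFun]
    rfl

theorem irr_monomial_elementary {p : ℕ} (hp : p.Prime) {E : Type u} [Group E] [Fintype E]
    (hE : IsElementary p E) (χ : IrrCharacter E) :
    ∃ (K : Subgroup E) (l : K →* ℂˣ), (χ : E → ℂ) = indFun K (fun k => (l k : ℂ)) :=
  irr_monomial_elementary_aux hp (Nat.card E) E rfl hE χ

section Final

variable {G : Type u} [Group G] [Fintype G]

/-- Functions induced from linear characters of elementary subgroups. -/
def linInd (G : Type u) [Group G] [Fintype G] : Set (G → ℂ) :=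
  {f | ∃ (E : Subgroup G) (l : E →* ℂˣ), (∃ p : ℕ, p.Prime ∧ IsElementary p E) ∧
    f = indFun E (fun e => (l e : ℂ))}

theorem elemIndAll_subset_span_linInd :
    elemIndAll G ⊆ (Submodule.span ℤ (linInd G) : Set (G → ℂ)) := by
  classical
  rintro f ⟨p, hp, E, ψ, hE, hψ, rfl⟩
  have hfin : Finite (IrrCharacter E) := irr_finite
  let _ : Fintype (IrrCharacter E) := Fintype.ofFinite _
  obtain ⟨m, hm⟩ := exists_decomp_of_isCharacter ψ hψ
  rw [hm, indFun_sum]
  refine Submodule.sum_mem _ (fun χ _ => ?_)
  rw [indFun_smul]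
  have h1 : (m χ : ℂ) • indFun E (χ : E → ℂ) = (m χ : ℤ) • indFun E (χ : E → ℂ) := by
    ext x
    simp
  rw [h1]
  refine Submodule.smul_mem _ _ (Submodule.subset_span ?_)
  obtain ⟨K, l, hl⟩ := irr_monomial_elementary hp hE χ
  refine ⟨K.map E.subtype, l.comp
    ((K.equivMapOfInjective E.subtype E.subtype_injective).symm : _ →* K), ⟨p, hp, ?_⟩, ?_⟩
  · exact isElementary_of_equiv (K.equivMapOfInjective E.subtype E.subtype_injective)
      (isElementary_subgroup hp hE K)
  · rw [hl, indFun_indFun]
    rfl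

/-- **Brauer's induction theorem**, span form. -/
theorem brauer_induction_span (χ : G → ℂ) (hχ : IsCharacter G χ) :
    χ ∈ Submodule.span ℤ (linInd G) := by
  have h1 := isCharacter_mem_span_elemIndAll χ hχ
  have h2 : Submodule.span ℤ (elemIndAll G) ≤ Submodule.span ℤ (linInd G) :=
    Submodule.span_le.mpr elemIndAll_subset_span_linInd
  exact h2 h1

end Final

end Cfsg.Agent.Lib.Helper4
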