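import Mathlib
import Cfsg.Agent.Lib.Helper22.PRatF
import Cfsg.Agent.Lib.Helper92.DOCL5

/-!
# Piece PSEC of S4507 (helper79): `p`-sections for a Sylow subgroup of order `p`
-/

set_option autoImplicit false

namespace Cfsg.Agent.Lib.Helper4.DG

open Cfsg

variable {G : Type*} [Group G] [Fintype G]

/-- PIECE PSEC -/
theorem exists_psection (p : ℕ) [Fact p.Prime] (P : Sylow p G) (hP : Nat.card P = p)
    (z : G) (hz : z ∈ (P : Subgroup G)) (hz1 : z ≠ 1) (g : G) (hg : p ∣ orderOf g) :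
    ∃ (h : G) (t : ZMod p) (s : Subgroup.centralizer ((P : Subgroup G) : Set G)),
      t ≠ 0 ∧ ¬ p ∣ orderOf s ∧ g = h * (z ^ t.val * (s : G)) * h⁻¹ := by
  have hp : p.Prime := Fact.out
  have hzo : orderOf z = p := Cfsg.Agent.Lib.Helper92.DO.cf_order p P hP z hz hz1
  have hPz : (P : Subgroup G) = Subgroup.zpowers z :=
    Cfsg.Agent.Lib.Helper92.DO.cf_zpowers p P hP z hz hz1
  obtain ⟨c, c', ⟨e, hc'⟩, hc, hgc⟩ := Cfsg.Agent.Lib.Helper22.PRat.exists_p_decomp p hp g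
  -- x = g ^ c' (p-part), y = g ^ c (p'-part), g = x * y
  have hgxy : g = g ^ c' * g ^ c := by
    rw [← hgc]
    have hcomm : Commute g (g ^ c')⁻¹ := ((Commute.refl g).pow_right c').inv_right
    rw [hcomm.eq]
    group
  have hx1 : g ^ c' ≠ 1 := by
    intro h1
    rw [h1, inv_one, mul_one] at hgc
    apply hc
    rw [← hgc]
    exact hg
  -- zpowers x is a p-group
  have hxp : IsPGroup p (Subgroup.zpowers (g ^ c')) := by
    have hdvd : orderOf (g ^ c') ∣ p ^ e := orderOf_dvd_of_pow_eq_one hc'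
    obtain ⟨k, -, hk⟩ := (Nat.dvd_prime_pow hp).mp hdvd
    apply IsPGroup.of_card (n := k)
    rw [Nat.card_zpowers, hk]
  obtain ⟨Q, hQ⟩ := hxp.exists_le_sylow
  obtain ⟨h, hh⟩ := MulAction.exists_smul_eq G P Q
  have hxQ : g ^ c' ∈ (Q : Subgroup G) := hQ (Subgroup.mem_zpowers _)
  have hxP : h⁻¹ * g ^ c' * h ∈ (P : Subgroup G) := by
    rw [← hh, Sylow.coe_subgroup_smul, Subgroup.mem_pointwise_smul_iff_inv_smul_mem] at hxQ
    have e0 : (MulAut.conj h)⁻¹ • g ^ c' = h⁻¹ * g ^ c' * h := by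
      rw [MulAut.smul_def, MulAut.conj_inv_apply]
    rw [e0] at hxQ
    exact hxQ
  have hx1' : h⁻¹ * g ^ c' * h ≠ 1 := by
    intro h1
    apply hx1
    have : g ^ c' = h * (h⁻¹ * g ^ c' * h) * h⁻¹ := by group
    rw [this, h1]
    group
  rw [hPz] at hxP
  obtain ⟨u, hu⟩ := Cfsg.Agent.Lib.Helper92.DO.cf_exists p z hzo _ hxP hx1'
  -- s
  have hcomm : Commute (h⁻¹ * g ^ c' * h) (h⁻¹ * g ^ c * h) := by
    have h0 : Commute (g ^ c') (g ^ c) := ((Commute.refl g).pow_right c).pow_left c'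
    show (h⁻¹ * g ^ c' * h) * (h⁻¹ * g ^ c * h) = (h⁻¹ * g ^ c * h) * (h⁻¹ * g ^ c' * h)
    have e1 : (h⁻¹ * g ^ c' * h) * (h⁻¹ * g ^ c * h) = h⁻¹ * (g ^ c' * g ^ c) * h := by group
    have e2 : (h⁻¹ * g ^ c * h) * (h⁻¹ * g ^ c' * h) = h⁻¹ * (g ^ c * g ^ c') * h := by group
    rw [e1, e2, h0.eq]
  have hzpow : z = (z ^ (u : ZMod p).val) ^ ((u⁻¹ : (ZMod p)ˣ) : ZMod p).val := by
    rw [← Cfsg.Agent.Lib.Helper92.DO.cf_pow_mul p z hzo u u⁻¹, mul_inv_cancel, Units.val_one,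
      ZMod.val_one, pow_one]
  have hsz : Commute (h⁻¹ * g ^ c * h) z := by
    rw [hzpow, ← hu]
    exact (hcomm.pow_left _).symm
  have hsC : h⁻¹ * g ^ c * h ∈ Subgroup.centralizer ((P : Subgroup G) : Set G) := by
    rw [Subgroup.mem_centralizer_iff]
    intro w hw
    have hw' : w ∈ Subgroup.zpowers z := by rw [← hPz]; exact hw
    obtain ⟨n, rfl⟩ := Subgroup.mem_zpowers_iff.mp hw'
    exact ((hsz.zpow_right n).eq).symm
  refine ⟨h, (u : ZMod p), ⟨h⁻¹ * g ^ c * h, hsC⟩, u.ne_zero, ?_, ?_⟩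
  · rw [Subgroup.orderOf_mk]
    have : orderOf (h⁻¹ * g ^ c * h) = orderOf (g ^ c) := by
      have hsc : SemiconjBy h (h⁻¹ * g ^ c * h) (g ^ c) := by
        show h * (h⁻¹ * g ^ c * h) = g ^ c * h
        group
      exact hsc.orderOf_eq
    rw [this]
    exact hc
  · show g = h * (z ^ (u : ZMod p).val * (h⁻¹ * g ^ c * h)) * h⁻¹
    rw [← hu]
    conv_lhs => rw [hgxy]
    group

end Cfsg.Agent.Lib.Helper4.DG
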