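import Mathlib

/-!
# S1615 piece P14b: a prime divisor of `4 * 3 ^ j - 3` other than `2, 3, 5`
-/

set_option autoImplicit false

namespace Cfsg.Agent.Lib.Helper4.F15

/-- a natural number `≡ 3 mod 4` has a prime divisor `≡ 3 mod 4` -/
theorem h4_exists_prime_three_mod_four :
    ∀ n : ℕ, n % 4 = 3 → ∃ p : ℕ, p.Prime ∧ p ∣ n ∧ p % 4 = 3 := by
  intro n
  induction n using Nat.strong_induction_on with
  | _ n ih =>
    intro hn
    have hn1 : n ≠ 1 := by omega
    have hp := Nat.minFac_prime hn1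
    have hdvd := Nat.minFac_dvd n
    by_cases h3 : n.minFac % 4 = 3
    · exact ⟨_, hp, hdvd, h3⟩
    · obtain ⟨m, hm⟩ := hdvd
      have hodd : n.minFac % 2 = 1 := by
        rcases Nat.even_or_odd n.minFac with he | ho
        · exfalso
          have : 2 ∣ n := dvd_trans he.two_dvd (Nat.minFac_dvd n)
          omega
        · exact Nat.odd_iff.1 ho
      have h1 : n.minFac % 4 = 1 := by omega
      have hm3 : m % 4 = 3 := by
        have h5 : (n.minFac * m) % 4 = 3 := by rw [← hm]; exact hn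
        rw [Nat.mul_mod, h1] at h5
        have h6 : m % 4 < 4 := Nat.mod_lt _ (by norm_num)
        rw [one_mul, Nat.mod_eq_of_lt h6] at h5
        omega
      have hmlt : m < n := by
        have h2 := hp.two_le
        have hmpos : 0 < m := by omega
        calc m < n.minFac * m := by nlinarith
          _ = n := hm.symm
      obtain ⟨p, hpp, hpm, hp3⟩ := ih m hmlt hm3
      exact ⟨p, hpp, dvd_trans hpm (Dvd.intro_left _ hm.symm), hp3⟩

theorem moore_arith (j : ℕ) (hj : 2 ≤ j) :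
    ∃ p : ℕ, p.Prime ∧ (p : ℤ) ∣ 4 * ((3 ^ j : ℕ) : ℤ) - 3 ∧ p ≠ 2 ∧ p ≠ 3 ∧ p ≠ 5 := by
  obtain ⟨i, rfl⟩ : ∃ i, j = i + 2 := ⟨j - 2, by omega⟩
  have h3pos : 0 < 3 ^ i := by positivity
  have e1 : 3 ^ (i + 2) = 9 * 3 ^ i := by ring
  have hM4 : (12 * 3 ^ i - 1) % 4 = 3 := by omega
  have hM3 : (12 * 3 ^ i - 1) % 3 = 2 := by omega
  obtain ⟨p, hp, hpd, hp4⟩ := h4_exists_prime_three_mod_four _ hM4
  refine ⟨p, hp, ?_, by omega, ?_, by omega⟩
  · have h7 : (4 * ((3 ^ (i + 2) : ℕ) : ℤ) - 3) = 3 * ((12 * 3 ^ i - 1 : ℕ) : ℤ) := by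
      rw [Nat.cast_sub (by omega), e1]
      push_cast
      ring
    rw [h7]
    exact Dvd.dvd.mul_left (Int.natCast_dvd_natCast.2 hpd) 3
  · rintro rfl
    omega

end Cfsg.Agent.Lib.Helper4.F15
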