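import Mathlib

set_option autoImplicit false

namespace Cfsg.Agent.Lib.Helper4

/-- In a nilpotent group, elements of coprime orders commute. -/
theorem commute_of_coprime_of_isNilpotent (G : Type*) [Group G] [Group.IsNilpotent G] :
    ∀ x g : G, (orderOf x).Coprime (orderOf g) → x * g = g * x := by
  apply @Group.nilpotent_center_quotient_ind
    (fun G _ _ => ∀ x g : G, (orderOf x).Coprime (orderOf g) → x * g = g * x) G _ _
  · intro G _ _ x g _
    exact Subsingleton.elim _ _
  · intro G _ _ ih x g hcop
    have h1 := ih (QuotientGroup.mk' (Subgroup.center G) x) (QuotientGroup.mk' (Subgroup.center G) g)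
      (Nat.Coprime.coprime_dvd_left (orderOf_map_dvd _ x)
        (Nat.Coprime.coprime_dvd_right (orderOf_map_dvd _ g) hcop))
    have hz : x * g * x⁻¹ * g⁻¹ ∈ Subgroup.center G := by
      have : QuotientGroup.mk' (Subgroup.center G) (x * g * x⁻¹ * g⁻¹) = 1 := by
        rw [map_mul, map_mul, map_mul, h1, map_inv, map_inv]
        group
      exact (QuotientGroup.eq_one_iff _).mp this
    set z := x * g * x⁻¹ * g⁻¹ with hzdef
    have hzc : ∀ a : G, a * z = z * a := fun a => (Subgroup.mem_center_iff.mp hz) a
    have e1 : z ^ orderOf x = 1 := by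
      have : g * x⁻¹ * g⁻¹ = x⁻¹ * z := by rw [hzdef]; group
      have h2 : (g * x⁻¹ * g⁻¹) ^ orderOf x = 1 := by
        rw [conj_pow, inv_pow, pow_orderOf_eq_one, inv_one, mul_one, mul_inv_cancel]
      rw [this, (show Commute x⁻¹ z from hzc x⁻¹).mul_pow, inv_pow, pow_orderOf_eq_one, inv_one,
        one_mul] at h2
      exact h2
    have e2 : z ^ orderOf g = 1 := by
      have : x * g * x⁻¹ = z * g := by rw [hzdef]; group
      have h2 : (x * g * x⁻¹) ^ orderOf g = 1 := by
        rw [conj_pow, pow_orderOf_eq_one, mul_one, mul_inv_cancel]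
      rw [this, (show Commute z g from (hzc g).symm).mul_pow, pow_orderOf_eq_one, mul_one] at h2
      exact h2
    have h3 : orderOf z = 1 :=
      Nat.eq_one_of_dvd_coprimes hcop (orderOf_dvd_of_pow_eq_one e1) (orderOf_dvd_of_pow_eq_one e2)
    have h4 : z = 1 := orderOf_eq_one_iff.mp h3
    calc x * g = z * (g * x) := by rw [hzdef]; group
      _ = g * x := by rw [h4, one_mul]

end Cfsg.Agent.Lib.Helper4
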