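import Cfsg.Agent.Lib.Helper4.BrMono5

set_option autoImplicit false

namespace Cfsg.Agent.Lib.Helper4

/-- Elementary groups are nilpotent. -/
theorem isNilpotent_of_isElementary {p : ℕ} (hp : p.Prime) {E : Type*} [Group E] [Finite E]
    (hE : IsElementary p E) : Group.IsNilpotent E := by
  obtain ⟨x, hxc, hxo, k, hk⟩ := hE
  have hCn : (Subgroup.zpowers x).Normal := by
    constructor
    intro n hn g
    have : g * n * g⁻¹ = n := by
      obtain ⟨j, rfl⟩ := Subgroup.mem_zpowers_iff.mp hn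
      have h1 : g * x = x * g := Subgroup.mem_center_iff.mp hxc g
      have h2 : g * x ^ j = x ^ j * g := ((show Commute g x from h1).zpow_right j).eq
      rw [h2, mul_inv_cancel_right]
    rw [this]; exact hn
  have : Fact p.Prime := ⟨hp⟩
  have hQ : IsPGroup p (E ⧸ Subgroup.zpowers x) :=
    IsPGroup.of_card (n := k) (by rw [← Subgroup.index_eq_card]; exact hk)
  have : Group.IsNilpotent (E ⧸ Subgroup.zpowers x) := hQ.isNilpotent
  apply Subgroup.isNilpotent_of_ker_le_center (QuotientGroup.mk' (Subgroup.zpowers x))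
  rw [QuotientGroup.ker_mk']
  exact (Subgroup.zpowers_le).mpr hxc

/-- In a finite nilpotent group, a power map which is the identity or trivial on each Sylow
subgroup is multiplicative. -/
theorem pow_mul_of_isNilpotent {E : Type*} [Group E] [Finite E] [hn : Group.IsNilpotent E] (a : ℕ)
    (h : ∀ (q : ℕ) [Fact q.Prime] (P : Sylow q E),
      (∀ x ∈ P, x ^ a = x) ∨ (∀ x ∈ P, x ^ a = 1))
    (x y : E) : (x * y) ^ a = x ^ a * y ^ a := by
  obtain ⟨φ⟩ := ((Group.isNilpotent_of_finite_tfae (G := E)).out 0 4 rfl rfl).mp hn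
  obtain ⟨x', rfl⟩ := φ.surjective x
  obtain ⟨y', rfl⟩ := φ.surjective y
  rw [← map_mul, ← map_pow, ← map_pow, ← map_pow, ← map_mul]
  congr 1
  funext q
  funext P
  have : Fact (q : ℕ).Prime := ⟨Nat.prime_of_mem_primeFactors q.2⟩
  show (x' q P * y' q P) ^ a = (x' q P) ^ a * (y' q P) ^ a
  apply Subtype.ext
  push_cast
  rcases h q P with h1 | h1
  · rw [h1 _ (x' q P).2, h1 _ (y' q P).2]
    exact h1 _ (mul_mem (x' q P).2 (y' q P).2)
  · rw [h1 _ (x' q P).2, h1 _ (y' q P).2, mul_one]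
    exact h1 _ (mul_mem (x' q P).2 (y' q P).2)

theorem pow_eq_self_of_modEq {G : Type*} [Group G] {x : G} {a n : ℕ} (hx : orderOf x ∣ n)
    (ha : a ≡ 1 [MOD n]) : x ^ a = x := by
  have h1 : a ≡ 1 [MOD orderOf x] := ha.of_dvd hx
  have h2 := (pow_eq_pow_iff_modEq (x := x) (n := a) (m := 1)).mpr h1
  rwa [pow_one] at h2

theorem pow_eq_one_of_modEq {G : Type*} [Group G] {x : G} {a m : ℕ} (hx : orderOf x ∣ m)
    (ha : a ≡ 0 [MOD m]) : x ^ a = 1 := by
  have h1 : m ∣ a := (Nat.modEq_zero_iff_dvd).mp ha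
  exact orderOf_dvd_iff_pow_eq_one.mp (hx.trans h1)

section PiPart

variable {G : Type*} [Group G] [Finite G] {m n a : ℕ}

/-- `x ^ a` has order dividing `n`. -/
theorem orderOf_pow_dvd_of_modEq (hmn : Nat.card G = m * n) (ham : a ≡ 0 [MOD m]) (x : G) :
    orderOf (x ^ a) ∣ n := by
  apply orderOf_dvd_of_pow_eq_one
  rw [← pow_mul]
  apply orderOf_dvd_iff_pow_eq_one.mp
  have h1 : m ∣ a := (Nat.modEq_zero_iff_dvd).mp ham
  have h2 : orderOf x ∣ m * n := hmn ▸ orderOf_dvd_natCard x
  exact h2.trans (Nat.mul_dvd_mul_right h1 n)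

theorem pow_pow_self_of_modEq (hmn : Nat.card G = m * n) (ham : a ≡ 0 [MOD m])
    (han : a ≡ 1 [MOD n]) (x : G) : (x ^ a) ^ a = x ^ a :=
  pow_eq_self_of_modEq (orderOf_pow_dvd_of_modEq hmn ham x) han

/-- For a nilpotent subgroup, the `n`-part map `x ↦ x ^ a` is multiplicative. -/
theorem pow_mul_of_modEq (hmn : Nat.card G = m * n) (hcop : Nat.Coprime m n)
    (ham : a ≡ 0 [MOD m]) (han : a ≡ 1 [MOD n]) (E : Subgroup G) [Group.IsNilpotent E]
    (x y : E) : (x * y) ^ a = x ^ a * y ^ a := by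
  apply pow_mul_of_isNilpotent
  intro q hq P
  have hq' : q.Prime := hq.out
  obtain ⟨k, hk⟩ := IsPGroup.iff_card.mp P.isPGroup'
  have h1 : q ^ k ∣ m * n := by
    rw [← hk, ← hmn]
    exact ((Subgroup.card_subgroup_dvd_card (P : Subgroup E)).trans
      (Subgroup.card_subgroup_dvd_card E))
  have hord : ∀ x ∈ P, orderOf x ∣ q ^ k := by
    intro x hx
    rw [← hk]
    exact Subgroup.orderOf_dvd_natCard _ hx
  by_cases hqn : q ∣ n
  · left
    have hqm : Nat.Coprime (q ^ k) m := by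
      apply Nat.Coprime.pow_left
      rw [Nat.Prime.coprime_iff_not_dvd hq']
      intro hqm
      have := Nat.dvd_gcd hqm hqn
      rw [hcop] at this
      exact hq'.one_lt.ne' (Nat.dvd_one.mp this)
    have h2 : q ^ k ∣ n := hqm.dvd_of_dvd_mul_left h1
    intro x hx
    exact pow_eq_self_of_modEq ((hord x hx).trans h2) han
  · right
    have hqn' : Nat.Coprime (q ^ k) n := by
      apply Nat.Coprime.pow_left
      rwa [Nat.Prime.coprime_iff_not_dvd hq']
    have h2 : q ^ k ∣ m := hqn'.dvd_of_dvd_mul_right h1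
    intro x hx
    exact pow_eq_one_of_modEq ((hord x hx).trans h2) ham

/-- The `n`-part endomorphism of a nilpotent subgroup. -/
def powHom (hmn : Nat.card G = m * n) (hcop : Nat.Coprime m n)
    (ham : a ≡ 0 [MOD m]) (han : a ≡ 1 [MOD n]) (E : Subgroup G) [Group.IsNilpotent E] :
    E →* E where
  toFun x := x ^ a
  map_one' := one_pow a
  map_mul' := pow_mul_of_modEq hmn hcop ham han E

@[simp]
theorem powHom_apply (hmn : Nat.card G = m * n) (hcop : Nat.Coprime m n)
    (ham : a ≡ 0 [MOD m]) (han : a ≡ 1 [MOD n]) (E : Subgroup G) [Group.IsNilpotent E] (x : E) :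
    powHom hmn hcop ham han E x = x ^ a := rfl

/-- The image of the `n`-part endomorphism has order dividing `n`. -/
theorem card_range_powHom_dvd (hmn : Nat.card G = m * n) (hcop : Nat.Coprime m n)
    (ham : a ≡ 0 [MOD m]) (han : a ≡ 1 [MOD n]) (E : Subgroup G) [Group.IsNilpotent E] :
    Nat.card (powHom hmn hcop ham han E).range ∣ n := by
  have h1 : Nat.card (powHom hmn hcop ham han E).range ∣ m * n := by
    rw [← hmn]
    exact (Subgroup.card_subgroup_dvd_card _).trans (Subgroup.card_subgroup_dvd_card E)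
  have h2 : Nat.Coprime (Nat.card (powHom hmn hcop ham han E).range) m := by
    apply Nat.Coprime.symm
    apply Nat.coprime_of_dvd
    intro q hq hqm hqc
    have : Fact q.Prime := ⟨hq⟩
    obtain ⟨b, hb⟩ := exists_prime_orderOf_dvd_card' q hqc
    obtain ⟨e, he⟩ := b.2
    have h3 : orderOf (b : E) ∣ n := by
      rw [← he, powHom_apply, ← Subgroup.orderOf_coe, Subgroup.coe_pow]
      exact orderOf_pow_dvd_of_modEq hmn ham (e : G)
    rw [Subgroup.orderOf_coe, hb] at h3
    have := Nat.dvd_gcd hqm h3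
    rw [hcop] at this
    exact hq.one_lt.ne' (Nat.dvd_one.mp this)
  exact h2.dvd_of_dvd_mul_left h1

end PiPart

end Cfsg.Agent.Lib.Helper4
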