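import Cfsg.Agent.Lib.Helper4.Contrib3
import Cfsg.Agent.Lib.Helper4.BrMono5
import Cfsg.Agent.Lib.Helper2.Tate
import Cfsg.Agent.Lib.Helper3.MaxClass
import Cfsg.Agent.Lib.Helper81.BlockNormal
import Cfsg.Agent.Lib.Helper83.Quot
import Cfsg.Agent.Lib.Helper83.Codeg
import Cfsg.Agent.Lib.Helper35.Ind
import Cfsg.Agent.Lib.Helper79.Blk2

/-!
# Normal `p`-complements from extendible linear characters (helper4)

* `npc_of_extend`: if every linear character of order dividing `p` of a Sylow `p`-subgroup
  extends to a linear character of `G`, then `G` has a normal `p`-complement (Tate).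
* `principal_deg_pow_of_npc`: in a group with a normal `p`-complement the characters of the
  principal block have `p`-power degree.
-/

set_option autoImplicit false

namespace Cfsg.Agent.Lib.Helper4

open Cfsg

/-- If every linear character `l` of a Sylow `p`-subgroup `P` with `l ^ p = 1` extends to a linear
character of `G`, then `P ∩ O^p(G) = 1` and `G` has a normal `p`-complement. -/
theorem npc_of_extend {G : Type*} [Group G] [Finite G] (p : ℕ) [Fact p.Prime] (P : Sylow p G)
    (hext : ∀ l : (P : Subgroup G) →* ℂˣ, (∀ x, l x ^ p = 1) →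
      ∃ χ : G →* ℂˣ, ∀ x : (P : Subgroup G), χ (x : G) = l x) :
    HasNormalPComplement p G := by
  have hp := (Fact.out : p.Prime)
  have hfr : ∀ x : (P : Subgroup G), (x : G) ∈ Cfsg.pResidual p G →
      x ∈ frattini (P : Subgroup G) := by
    intro x hx
    obtain ⟨k, hk⟩ := P.isPGroup' x
    have hk' : (x : G) ^ p ^ k = 1 := by
      have := congrArg Subtype.val hk
      simpa using this
    have hxc : (x : G) ∈ commutator G :=
      Cfsg.Agent.Lib.Helper2.mem_commutator_of_mem_pResidual (x : G) hx k hk'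
    simp only [frattini, Order.radical, Subgroup.mem_iInf]
    intro Mx hMx
    by_contra hxM
    obtain ⟨hMn, hMi⟩ := Cfsg.Agent.Lib.Helper3.coatom_normal_index P.isPGroup' Mx hMx
    have hcard : Nat.card ((P : Subgroup G) ⧸ Mx) = p := hMi
    have : Fact (Nat.card ((P : Subgroup G) ⧸ Mx)).Prime := ⟨by rw [hcard]; exact hp⟩
    have hcyc : IsCyclic ((P : Subgroup G) ⧸ Mx) := isCyclic_of_prime_card hcard
    let _ : CommGroup ((P : Subgroup G) ⧸ Mx) := IsCyclic.commGroup
    have hne : (QuotientGroup.mk' Mx x) ≠ 1 := by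
      intro h
      apply hxM
      exact (QuotientGroup.eq_one_iff x).mp h
    obtain ⟨φ, hφ⟩ := CommGroup.exists_apply_ne_one_of_hasEnoughRootsOfUnity
      ((P : Subgroup G) ⧸ Mx) ℂ hne
    obtain ⟨χ, hχ⟩ := hext (φ.comp (QuotientGroup.mk' Mx)) (by
      intro y
      have h1 : (QuotientGroup.mk' Mx y) ^ p = 1 := by
        have h0 : (QuotientGroup.mk' Mx y) ^ Nat.card ((P : Subgroup G) ⧸ Mx) = 1 :=
          pow_card_eq_one'
        rw [hcard] at h0
        exact h0
      rw [MonoidHom.comp_apply, ← map_pow, h1, map_one])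
    have h2 : χ (x : G) = 1 := Abelianization.commutator_subset_ker χ hxc
    rw [hχ x] at h2
    exact hφ h2
  have hbot := Cfsg.Agent.Lib.Helper2.tate_frattini P hfr
  have hN : (Cfsg.pResidual p G).Normal := Cfsg.Agent.Lib.Helper2.pResidual_normal p
  refine ⟨P, Cfsg.pResidual p G, hN, ?_⟩
  apply Subgroup.isComplement'_of_disjoint_and_mul_eq_univ
  · rw [disjoint_iff, inf_comm]
    exact hbot
  · have h1 := Cfsg.Agent.Lib.Helper2.sylow_sup_pResidual P
    rw [sup_comm] at h1
    rw [← Subgroup.normal_mul, h1]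
    rfl

/-- In a group with a normal `p`-complement the characters of the principal `p`-block have
`p`-power degree. -/
theorem principal_deg_pow_of_npc {G : Type*} [Group G] [Finite G] (p : ℕ) [Fact p.Prime]
    (M : Ideal AlgInt) (hM : IsPModular p M) (h : HasNormalPComplement p G)
    (χ : IrrCharacter G) (hχ : χ ∈ principalBlock M G) :
    ∃ j : ℕ, charDegree (χ : G → ℂ) = p ^ j := by
  classical
  have hp := (Fact.out : p.Prime)
  obtain ⟨P, N, hN, hc⟩ := h
  let _ : Fintype G := Fintype.ofFinite G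
  have hcard : Nat.card N * Nat.card (P : Subgroup G) = Nat.card G := hc.card_mul_card
  have hNidx : Nat.card N = (P : Subgroup G).index := by
    have h1 := Subgroup.card_mul_index (P : Subgroup G)
    rw [← hcard] at h1
    have h1' : Nat.card (P : Subgroup G) * (P : Subgroup G).index =
        Nat.card (P : Subgroup G) * Nat.card N := by
      rw [h1, mul_comm]
    exact (Nat.eq_of_mul_eq_mul_left Nat.card_pos h1').symm
  have hNp : ¬ p ∣ Nat.card N := by
    rw [hNidx]
    exact P.not_dvd_index
  set τ := Cfsg.Agent.Lib.Helper83.trivIrr G with hτ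
  have hsame : SameBlock M (χ : G → ℂ) (τ : G → ℂ) :=
    Cfsg.Agent.Lib.Helper79.sameBlock_symm' hM hχ
  have htriv := Cfsg.Agent.Lib.Helper81.ker_of_sameBlock hM N hNp χ τ hsame (fun n _ => rfl)
  obtain ⟨ψ, hψ⟩ := Cfsg.Agent.Lib.Helper83.exists_inflate_eq N χ htriv
  have hdeg : charDegree (χ : G → ℂ) = charDegree (ψ : G ⧸ N → ℂ) := by
    rw [← hψ]
    exact Cfsg.Agent.Lib.Helper83.charDegree_inflate N ψ
  have hdvd : charDegree (ψ : G ⧸ N → ℂ) ∣ Nat.card (G ⧸ N) :=
    Cfsg.Agent.Lib.Helper83.irr_degree_dvd_card ψ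
  have hq : Nat.card (G ⧸ N) = Nat.card (P : Subgroup G) := by
    have h1 := Subgroup.card_mul_index N
    rw [← hcard] at h1
    have h2 := Nat.eq_of_mul_eq_mul_left Nat.card_pos h1
    rw [← h2]
    rfl
  rw [hq, P.card_eq_multiplicity, ← hdeg] at hdvd
  obtain ⟨j, -, hj⟩ := (Nat.dvd_prime_pow hp).mp hdvd
  exact ⟨j, hj⟩

end Cfsg.Agent.Lib.Helper4
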