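import Cfsg.Agent.S0915
import Cfsg.Agent.Lib.Helper82.PrimeQuot
import Cfsg.Agent.Lib.Helper75.FrattiniAct
import Cfsg.Agent.Lib.Helper31.PComp
import Cfsg.Agent.Lib.Helper81.BlockNormal
import Cfsg.Agent.Lib.Helper79.Blk2

/-!
# The principal block of a `p`-solvable group (helper4)

* `mem_principal_iff_of_pSolvable`: in a `p`-solvable group the principal `p`-block consists of
  the irreducible characters with `O_{p'}(G)` in their kernel (Fong).
* `irr_eq_one_of_const`: an irreducible character which is constant is the principal character.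
-/

set_option autoImplicit false

namespace Cfsg.Agent.Lib.Helper4

open Cfsg

/-- In a `p`-solvable group, the principal `p`-block is the set of irreducible characters whose
kernel contains `O_{p'}(G)`. -/
theorem mem_principal_iff_of_pSolvable {G : Type*} [Group G] [Finite G] (p : ℕ) [Fact p.Prime]
    (M : Ideal AlgInt) (hM : IsPModular p M) (hsolv : IsPSolvable p G) (χ : IrrCharacter G) :
    χ ∈ principalBlock M G ↔
      ∀ n ∈ pPrimeCore p G, (χ : G → ℂ) n = (χ : G → ℂ) 1 := by
  classical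
  let _ : Fintype G := Fintype.ofFinite G
  have hNn : (pPrimeCore p G).Normal := Cfsg.Agent.Lib.Helper81.pPrimeCore_normal p
  have hNc : (Nat.card (pPrimeCore p G)).Coprime p := Cfsg.Agent.Lib.Helper81.pPrimeCore_coprime p
  constructor
  · intro hχ
    have hNp : ¬ p ∣ Nat.card (pPrimeCore p G) := by
      intro h
      have := Nat.Coprime.eq_one_of_dvd hNc.symm h
      exact (Fact.out : p.Prime).one_lt.ne' this
    have hsame : SameBlock M (χ : G → ℂ) (Cfsg.Agent.Lib.Helper83.trivIrr G : G → ℂ) :=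
      Cfsg.Agent.Lib.Helper79.sameBlock_symm' hM hχ
    exact Cfsg.Agent.Lib.Helper81.ker_of_sameBlock hM (pPrimeCore p G) hNp χ
      (Cfsg.Agent.Lib.Helper83.trivIrr G) hsame (fun n _ => rfl)
  · intro hker
    let _ : Fintype (G ⧸ pPrimeCore p G) := Fintype.ofFinite _
    have hsolvQ : IsPSolvable p (G ⧸ pPrimeCore p G) :=
      Cfsg.Agent.Lib.Helper75.Fratt.isPSolvable_quotient (pPrimeCore p G) hsolv
    have hcoreQ : pPrimeCore p (G ⧸ pPrimeCore p G) = ⊥ :=
      Cfsg.Agent.Lib.Helper31.pPrimeCore_quotient_eq_bot p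
    obtain ⟨ψ, hψ⟩ := Cfsg.Agent.Lib.Helper83.exists_inflate_eq (pPrimeCore p G) χ hker
    have hψB : ψ ∈ principalBlock M (G ⧸ pPrimeCore p G) :=
      Cfsg.Agent.S0915.result p M hM hsolvQ hcoreQ
        (Cfsg.Agent.Lib.Helper83.trivIrr (G ⧸ pPrimeCore p G)) ψ
    have hbij := Cfsg.Agent.Lib.Helper82.principal_bijOn_inflate hM (pPrimeCore p G) hNc
    rw [← hψ]
    exact hbij.mapsTo hψB

/-- A constant irreducible character is the principal character. -/
theorem irr_eq_one_of_const {G : Type*} [Group G] [Finite G] (χ : IrrCharacter G)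
    (h : ∀ g : G, (χ : G → ℂ) g = (χ : G → ℂ) 1) : (χ : G → ℂ) = fun _ => 1 := by
  classical
  let _ : Fintype G := Fintype.ofFinite G
  obtain ⟨hpos, h1⟩ := Cfsg.Agent.Lib.Helper83.irr_degree χ.2
  have h2 := classInner_irr χ χ
  rw [if_pos rfl] at h2
  unfold classInner at h2
  have h3 : ∑ g : G, (χ : G → ℂ) g * (starRingEnd ℂ) ((χ : G → ℂ) g) =
      (Nat.card G : ℂ) * ((charDegree (χ : G → ℂ) : ℂ) * (charDegree (χ : G → ℂ) : ℂ)) := by
    have h4 : ∀ g : G, (χ : G → ℂ) g * (starRingEnd ℂ) ((χ : G → ℂ) g) =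
        (charDegree (χ : G → ℂ) : ℂ) * (charDegree (χ : G → ℂ) : ℂ) := by
      intro g
      rw [h g, h1, Complex.conj_natCast]
    rw [Finset.sum_congr rfl (fun g _ => h4 g), Finset.sum_const, Finset.card_univ,
      nsmul_eq_mul, Nat.card_eq_fintype_card]
  rw [h3] at h2
  have hG : (Nat.card G : ℂ) ≠ 0 := by exact_mod_cast Nat.card_pos.ne'
  rw [← mul_assoc, inv_mul_cancel₀ hG, one_mul] at h2
  have h5 : charDegree (χ : G → ℂ) * charDegree (χ : G → ℂ) = 1 := by exact_mod_cast h2
  have h6 : charDegree (χ : G → ℂ) = 1 := Nat.eq_one_of_mul_eq_one_left h5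
  funext g
  rw [h g, h1, h6]
  simp

end Cfsg.Agent.Lib.Helper4
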