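import Mathlib
import Cfsg.Agent.Lib.Helper11.S983Tools
import Cfsg.Agent.Lib.Helper23.SimpleGen
import Cfsg.Agent.Lib.Helper36.S4274B1
import Cfsg.Agent.S0215

/-! S0983 (helper11), piece N3960 (helper4): there is no simple group of order 3960.
An involution `t` centralizing a Sylow 11-subgroup `P` has `C(t) ≤ N(P)`, `|C(t)| = 88`, and is
isolated in a Sylow 2-subgroup; Glauberman's `Z*` theorem (landed S0215) finishes. -/

set_option autoImplicit false
set_option linter.style.haveILetI false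

namespace Cfsg.Agent.S983

open Subgroup
open Cfsg.Agent.Lib.Helper23 Cfsg.Agent.Lib.Helper76.SylPrime

set_option maxRecDepth 100000 in
theorem n3960_cands : cands 3960 11 = [(45, 4, 2)] := by decide +kernel

/-- an involution centralizing a Sylow 11-subgroup fixes exactly one Sylow 11-subgroup -/
theorem n3960_fix {G : Type*} [Group G] [Finite G] [IsSimpleGroup G] (hG : ¬ IsMulCommutative G)
    (hn : Nat.card (Sylow 11 G) = 45) (Q : Sylow 11 G) (w : G)
    (hw : w ∈ centralizer ((Q : Subgroup G) : Set G)) (hw1 : w ≠ 1) (hw2 : w ^ 2 = 1) :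
    (MulAction.fixedBy (Sylow 11 G) w).ncard = 1 := by
  haveI : Fact (Nat.Prime 11) := ⟨by norm_num⟩
  have hn1 : Nat.card (Sylow 11 G) ≠ 1 := by rw [hn]; norm_num
  have h1 := fix_mod Q w hw
  have h2 := fix_mod_four (p := 11) hG hn1 w hw1 hw2
  have h3 := fix_lt (p := 11) hG hn1 w hw1
  rw [hn] at h2 h3
  omega

theorem ns3960 {G : Type*} [Group G] [Finite G] [IsSimpleGroup G] (h : Nat.card G = 3960) :
    False := by
  haveI : Fact (Nat.Prime 11) := ⟨by norm_num⟩
  haveI : Fact (Nat.Prime 2) := ⟨Nat.prime_two⟩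
  have hG : ¬ IsMulCommutative G := not_comm_of_simple_of_not_prime (by rw [h]; norm_num)
  -- step 1
  obtain ⟨d, c, r, hd, hc, hC, hNn, hmem⟩ :=
    mem_cands (p := 11) hG h (by norm_num) (by norm_num)
  rw [n3960_cands] at hmem
  simp only [List.mem_singleton, Prod.mk.injEq] at hmem
  obtain ⟨rfl, rfl, rfl⟩ := hmem
  -- step 3
  obtain ⟨P⟩ : Nonempty (Sylow 11 G) := inferInstance
  obtain ⟨t, htC, ht1, ht2⟩ := exists_mem_pow_eq_one (centralizer ((P : Subgroup G) : Set G)) 2
    (by rw [hC P]; norm_num)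
  have hto : orderOf t = 2 := orderOf_eq_prime ht2 ht1
  have hfixt := n3960_fix hG hd P t htC ht1 ht2
  have htP : t • P = P := smul_eq_of_mem_centralizer P t htC
  obtain ⟨Q0, hQ0⟩ := Set.ncard_eq_one.mp hfixt
  have hPmem : P ∈ MulAction.fixedBy (Sylow 11 G) t := htP
  have hQ0P : P = Q0 := by
    rw [hQ0] at hPmem
    exact Set.mem_singleton_iff.mp hPmem
  have huniq : ∀ Q : Sylow 11 G, t • Q = Q → Q = P := by
    intro Q hQ
    have h1 : Q ∈ MulAction.fixedBy (Sylow 11 G) t := hQ
    rw [hQ0, Set.mem_singleton_iff] at h1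
    rw [h1, hQ0P]
  have hcent : ∀ Q : Sylow 11 G, t • Q = Q → t ∈ centralizer ((Q : Subgroup G) : Set G) := by
    intro Q hQ
    rw [huniq Q hQ]
    exact htC
  have hcard := card_centralizer_eq P t htP hcent
  rw [hfixt, one_mul] at hcard
  have hCN : centralizer ({t} : Set G) ≤ normalizer ((P : Subgroup G) : Set G) := by
    have h1 : centralizer ({t} : Set G) ⊓ normalizer ((P : Subgroup G) : Set G) =
        centralizer ({t} : Set G) :=
      Subgroup.eq_of_le_of_card_ge inf_le_left (le_of_eq hcard)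
    rw [← h1]
    exact inf_le_right
  have hdvd88 : Nat.card (centralizer ({t} : Set G)) ∣ 88 := by
    have h1 := Subgroup.card_dvd_of_le hCN
    rw [hNn P] at h1
    exact h1
  -- step 4
  have h8 : 8 ∣ Nat.card (centralizer ({t} : Set G)) :=
    Cfsg.Agent.S4274T.eight_dvd_card_centralizer_involution hG 495 (by rw [h]) (by norm_num) t hto
  have h11 : 11 ∣ Nat.card (centralizer ({t} : Set G)) := by
    obtain ⟨x, hxP, hx1⟩ := exists_ne_one_mem hc P
    have hx11 : x ^ 11 = 1 := pow_eq_one hc P x hxP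
    have hxt : x ∈ centralizer ({t} : Set G) := by
      rw [Subgroup.mem_centralizer_singleton_iff]
      exact (Subgroup.mem_centralizer_iff.mp htC) x hxP
    exact dvd_card_of_mem _ 11 x hxt hx1 hx11
  have hC88 : Nat.card (centralizer ({t} : Set G)) = 88 := by
    have h88 : 8 * 11 ∣ Nat.card (centralizer ({t} : Set G)) :=
      Nat.Coprime.mul_dvd_of_dvd_of_dvd (by norm_num) h8 h11
    exact Nat.dvd_antisymm hdvd88 h88
  have hidx : (centralizer ({t} : Set G)).index = 45 := by
    have h1 := Subgroup.card_mul_index (centralizer ({t} : Set G))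
    rw [hC88, h] at h1
    omega
  -- step 5
  have hmod := card_conj_modEq (P : Subgroup G) P.isPGroup' t
  rw [hidx] at hmod
  have hTle : {s : G | IsConj t s ∧ s ∈ centralizer ((P : Subgroup G) : Set G)}.ncard * 11 ≤
      44 := by
    have h1 := card_invol_le hc P (by norm_num)
      {s : G | IsConj t s ∧ s ∈ centralizer ((P : Subgroup G) : Set G)} (by
        rintro s ⟨hs1, hs2⟩
        refine ⟨hs2, ?_⟩
        obtain ⟨g, hg⟩ := isConj_iff.mp hs1
        rw [← hg, conj_pow, ht2]
        group)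
    rw [hC P] at h1
    exact h1
  have hT1 : {s : G | IsConj t s ∧ s ∈ centralizer ((P : Subgroup G) : Set G)}.ncard = 1 := by
    have h1 := hmod
    unfold Nat.ModEq at h1
    omega
  have htT : t ∈ {s : G | IsConj t s ∧ s ∈ centralizer ((P : Subgroup G) : Set G)} :=
    ⟨IsConj.refl t, htC⟩
  obtain ⟨s0, hs0⟩ := Set.ncard_eq_one.mp hT1
  have hTt : ∀ s : G, IsConj t s → s ∈ centralizer ((P : Subgroup G) : Set G) → s = t := by
    intro s h1 h2
    have h3 : s ∈ {s : G | IsConj t s ∧ s ∈ centralizer ((P : Subgroup G) : Set G)} := ⟨h1, h2⟩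
    rw [hs0, Set.mem_singleton_iff] at h3 htT
    rw [h3, htT]
  -- step 6
  have htCt : t ∈ centralizer ({t} : Set G) := Subgroup.mem_centralizer_singleton_iff.mpr rfl
  have hpg : IsPGroup 2 (zpowers (⟨t, htCt⟩ : ↥(centralizer ({t} : Set G)))) := by
    apply IsPGroup.of_card (n := 1)
    rw [Nat.card_zpowers, pow_one, Subgroup.orderOf_mk, hto]
  obtain ⟨S1, hS1⟩ := hpg.exists_le_sylow
  obtain ⟨S, hSC, hS1S⟩ := exists_sylow_le_of_sylow_subgroup (centralizer ({t} : Set G))
    (by rw [hidx]; norm_num) S1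
  have htS : t ∈ (S : Subgroup G) := by
    have h1 : (⟨t, htCt⟩ : ↥(centralizer ({t} : Set G))) ∈ (S1 : Subgroup _) :=
      hS1 (Subgroup.mem_zpowers _)
    rw [hS1S, Subgroup.mem_subgroupOf] at h1
    exact h1
  -- step 7
  have hiso : ∀ g : G, g * t * g⁻¹ ∈ S → g * t * g⁻¹ = t := by
    intro g hg
    have hsC : g * t * g⁻¹ ∈ centralizer ({t} : Set G) := hSC hg
    have hsN : g * t * g⁻¹ ∈ normalizer ((P : Subgroup G) : Set G) := hCN hsC
    have hsP : (g * t * g⁻¹) • P = P := Sylow.smul_eq_iff_mem_normalizer.mpr hsN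
    have hs1 : g * t * g⁻¹ ≠ 1 := by
      intro h1
      apply ht1
      have h2 : t = g⁻¹ * (g * t * g⁻¹) * g := by group
      rw [h2, h1]
      group
    have hs2 : (g * t * g⁻¹) ^ 2 = 1 := by
      rw [conj_pow, ht2]
      group
    have hsQ : g * t * g⁻¹ ∈ centralizer (((g • P : Sylow 11 G) : Subgroup G) : Set G) := by
      rw [Subgroup.mem_centralizer_iff]
      intro y hy
      rw [SetLike.mem_coe, Cfsg.Agent.S4274T.t2_mem_smul_iff] at hy
      have h1 := (Subgroup.mem_centralizer_iff.mp htC) _ hy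
      calc y * (g * t * g⁻¹) = g * ((g⁻¹ * y * g) * t) * g⁻¹ := by group
        _ = g * (t * (g⁻¹ * y * g)) * g⁻¹ := by rw [h1]
        _ = g * t * g⁻¹ * y := by group
    have hfixs := n3960_fix hG hd (g • P) (g * t * g⁻¹) hsQ hs1 hs2
    obtain ⟨Q1, hQ1⟩ := Set.ncard_eq_one.mp hfixs
    have m1 : (g • P) ∈ MulAction.fixedBy (Sylow 11 G) (g * t * g⁻¹) :=
      smul_eq_of_mem_centralizer (g • P) _ hsQ
    have m2 : P ∈ MulAction.fixedBy (Sylow 11 G) (g * t * g⁻¹) := hsP
    rw [hQ1, Set.mem_singleton_iff] at m1 m2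
    have hgP : g • P = P := by rw [m1, m2]
    rw [hgP] at hsQ
    exact hTt _ (isConj_iff.mpr ⟨g, rfl⟩) hsQ
  -- step 8
  obtain ⟨N, hNnorm, hNodd, hNcomm⟩ := Cfsg.Agent.S0215.result S t hto htS hiso
  rcases hNnorm.eq_bot_or_eq_top with hb | htop
  · apply simple_centralizer_ne_top hG ht1
    rw [eq_top_iff]
    intro g _
    rw [Subgroup.mem_centralizer_singleton_iff]
    have h1 := hNcomm g
    rw [hb, Subgroup.mem_bot] at h1
    have h2 : t * g = (t * g * t⁻¹ * g⁻¹) * (g * t) := by group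
    rw [h2, h1, one_mul]
  · rw [htop, Subgroup.card_top, h] at hNodd
    exact absurd hNodd (by decide)

end Cfsg.Agent.S983
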