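import Mathlib
import Cfsg.Agent.Lib.Helper4.TPDefs
import Cfsg.Agent.Lib.Helper8.TPFrontMain
import Cfsg.Agent.S4034
import Cfsg.Agent.S4037

/-!
# Project TP (S4033): assembly of the BACK part

`core_bad_false`: the configuration `Bad G p m` is impossible (strong induction on `|G|`),
assuming the piece statements of `TPDefs`.  `core_back` converts this to helper8's `BackStmt`.
-/

set_option autoImplicit false

namespace Cfsg.Agent.Lib.Helper4.TP

universe u

theorem core_cen_eq {G : Type u} [Group G] {p : ℕ} (hA : A1Prop G p) {g w : G} (hg : NC p g)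
    (hw : NC p w) (h : w ∈ Cen g) : Cen g = Cen w := by
  apply le_antisymm (hA g w hg hw.1 h)
  apply hA w g hw hg.1
  rw [Subgroup.mem_centralizer_iff] at h ⊢
  intro x hx
  rw [Set.mem_singleton_iff] at hx
  rw [hx]
  exact (h g (Set.mem_singleton g)).symm

theorem core_preg_of_pow {G : Type u} [Group G] {p s : ℕ} (hp : p.Prime) (hs : s.Prime)
    (hsp : s ≠ p) {x : G} (hx : ∃ k, orderOf x = s ^ k) : PReg p x := by
  obtain ⟨k, hk⟩ := hx
  unfold PReg
  rw [hk]
  exact Nat.Coprime.pow_left k ((Nat.coprime_primes hs hp).mpr hsp)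

theorem core_orderOf_conj {G : Type u} [Group G] (x c : G) :
    orderOf (x * c * x⁻¹) = orderOf c := by
  have h := orderOf_injective (MulAut.conj x).toMonoidHom (MulAut.conj x).injective c
  simpa [MulAut.conj_apply] using h

theorem core_bad_false (hY2 : Y2Stmt.{u}) (hIdx : IdxStmt.{u}) (hFT : FTStmt.{u})
    (hN4 : N4Stmt.{u}) (hTrans : TransStmt.{u}) (hS3 : S3Stmt.{u}) (hKaz : KazStmt.{u})
    (hSolvA : SolvAStmt.{u}) (hSolvB : SolvBStmt.{u}) (hRS : RSStmt.{u}) (hConj : ConjStmt.{u})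
    (hRT1a : RT1aStmt.{u}) (hRT1b : RT1bStmt.{u}) (hRTAbs : RTAbsStmt.{u}) (hRPQ : RPQStmt.{u})
    (hZB : ZBStmt.{u})
    (hA1 : ∀ (G : Type u) [Group G] [Finite G] (p m : ℕ), p.Prime → Bad G p m → A1Prop G p) :
    ∀ (n : ℕ) (G : Type u) [Group G] [Finite G], Nat.card G = n →
      ∀ p m : ℕ, p.Prime → Bad G p m → False := by
  intro n
  induction n using Nat.strong_induction_on with
  | _ n ih =>
  intro G _ _ hn p m hp hBad
  have hA := hA1 G p m hp hBad
  obtain ⟨hH, hTwo, hnp⟩ := hBad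
  have hm1 : 1 < m := hH.1
  have hm0 : m ≠ 0 := by omega
  -- a prime `t ≠ p` dividing `m`
  have hex : ∃ t, t.Prime ∧ t ≠ p ∧ t ∣ m := by
    by_contra hcon
    push Not at hcon
    apply hnp
    exact ⟨_, Nat.eq_prime_pow_of_unique_prime_dvd hm0 (fun {d} hd hdm => by
      by_contra hdp
      exact hcon d hd hdp hdm)⟩
  obtain ⟨t, ht, htp, htm⟩ := hex
  -- FACT T
  have hFTm : ∀ t' : ℕ, t'.Prime → t' ≠ p → t' ∣ m → ¬ t' ^ 2 ∣ m ∧ m.factorization t' = 1 := by
    intro t' ht' ht'p ht'm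
    obtain ⟨T⟩ : Nonempty (Sylow t' G) := inferInstance
    obtain ⟨y, hyT, hyc, hycomm, hyt⟩ := hY2 G p m t' hp hH ht' ht'p ht'm T
    have h1 := hIdx G p m t' hp hH ht' ht'p T y hyT hyc hycomm
    have h2 := hFT G p m t' hp hH hA hTwo ht' ht'p T y hyT hyc hycomm hyt
    rw [h1] at h2
    have hle : m.factorization t' ≤ 1 := by
      have h3 : t' ^ m.factorization t' ∣ t' ^ 1 := by simpa using h2
      exact (Nat.pow_dvd_pow_iff_le_right ht'.one_lt).mp h3
    have hge : 1 ≤ m.factorization t' := (ht'.dvd_iff_one_le_factorization hm0).mp ht'm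
    refine ⟨?_, le_antisymm hle hge⟩
    intro h22
    have := (ht'.pow_dvd_iff_le_factorization hm0).mp h22
    omega
  -- uniqueness of the prime `t`
  have huniq : ∀ t' : ℕ, t'.Prime → t' ≠ p → t' ∣ m → t' = t := by
    intro t' ht' ht'p ht'm
    by_contra hne
    exact hN4 G p m t' t hp hH hA ht' ht ht'p htp hne ht'm htm
      (hFTm t' ht' ht'p ht'm).1 (hFTm t ht htp htm).1
  -- `m = p ^ a * t`
  have hmform : ∃ a, m = p ^ a * t := by
    have htm' := htm
    obtain ⟨m1, hm1e⟩ := htm'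
    have hm10 : m1 ≠ 0 := by
      rintro rfl
      omega
    have hpow : m1 = p ^ m1.primeFactorsList.length :=
      Nat.eq_prime_pow_of_unique_prime_dvd hm10 (fun {d} hd hdm => by
        by_contra hdp
        have hdm' : d ∣ m := by rw [hm1e]; exact Dvd.dvd.mul_left hdm t
        have hdt := huniq d hd hdp hdm'
        rw [hdt] at hdm
        apply (hFTm t ht htp htm).1
        rw [hm1e, pow_two]
        exact Nat.mul_dvd_mul_left t hdm)
    refine ⟨m1.primeFactorsList.length, ?_⟩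
    rw [← hpow, hm1e, mul_comm]
  obtain ⟨a, hma⟩ := hmform
  -- a noncentral prime `s ∉ {p, t}`
  have hs : ∃ (s : ℕ) (x : G), s.Prime ∧ s ≠ p ∧ s ≠ t ∧ x ∉ Subgroup.center G ∧
      ∃ k, orderOf x = s ^ k := by
    obtain ⟨q, r, x, z, hq, hr, hqp, hrp, hqr, hxc, hzc, hxo, hzo⟩ := hTwo
    by_cases hqt : q = t
    · exact ⟨r, z, hr, hrp, fun h => hqr (hqt.trans h.symm), hzc, hzo⟩
    · exact ⟨q, x, hq, hqp, hqt, hxc, hxo⟩
  obtain ⟨s, x, hs, hsp, hst, hxc, hxo⟩ := hs
  have hsm : ¬ s ∣ m := by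
    intro h
    rw [hma] at h
    rcases (Nat.Prime.dvd_mul hs).mp h with h | h
    · exact hsp ((Nat.prime_dvd_prime_iff_eq hs hp).mp (hs.dvd_of_dvd_pow h))
    · exact hst ((Nat.prime_dvd_prime_iff_eq hs ht).mp h)
  -- the element `y`
  obtain ⟨T⟩ : Nonempty (Sylow t G) := inferInstance
  obtain ⟨y, hyT, hyc, hycomm, hyt⟩ := hY2 G p m t hp hH ht htp htm T
  have hidx : (Cen y).relIndex (T : Subgroup G) = t := by
    rw [hIdx G p m t hp hH ht htp T y hyT hyc hycomm, (hFTm t ht htp htm).2, pow_one]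
  -- Kazarin
  obtain ⟨k, hk⟩ := hKaz G p m t hp hH ht htp ⟨a, hma⟩ T y hyT hyc hycomm
  have hsolv : Group.IsSolvable ↥(Subgroup.normalClosure
      ({(QuotientGroup.mk (s := Subgroup.center G) y : G ⧸ Subgroup.center G)} :
        Set (G ⧸ Subgroup.center G))) :=
    Cfsg.Agent.S4037.result _ hp k (by rw [Cfsg.Agent.S4034.ncard_carrier_eq_index]; exact hk)
  have hNne : Subgroup.normalClosure
      ({(QuotientGroup.mk (s := Subgroup.center G) y : G ⧸ Subgroup.center G)} :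
        Set (G ⧸ Subgroup.center G)) ≠ ⊥ := by
    intro h
    have hmem : (QuotientGroup.mk (s := Subgroup.center G) y : G ⧸ Subgroup.center G) ∈
        Subgroup.normalClosure
          ({(QuotientGroup.mk (s := Subgroup.center G) y : G ⧸ Subgroup.center G)} :
            Set (G ⧸ Subgroup.center G)) :=
      Subgroup.subset_normalClosure (Set.mem_singleton _)
    rw [h, Subgroup.mem_bot, QuotientGroup.eq_one_iff] at hmem
    exact hyc hmem
  obtain ⟨r, R, hr, hRn, hRne, hRp, -⟩ :=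
    hSolvA (G ⧸ Subgroup.center G) _ Subgroup.normalClosure_normal hNne hsolv
  obtain ⟨B, hBn, hBp, hBc⟩ := hSolvB G r hr R hRn hRne hRp
  have hBne : B ≠ ⊥ := by
    rintro rfl
    exact hBc bot_le
  have hxNC : NC p x := ⟨core_preg_of_pow hp hs hsp hxo, hxc⟩
  have htrans := hTrans G p m s hp hH hA hs hsp hsm x hxc hxo
  by_cases hrp : r = p
  · -- normal `p`-subgroup: pass to the quotient
    rw [hrp] at hBp
    obtain ⟨B', hB'n, hB'p, hB'ne, hB'comm⟩ := hZB G p hp B hBn hBp hBne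
    have hconst : ∃ d, ∀ w : G, NC p w → (Cen w).relIndex B' = d := by
      refine ⟨(Cen x).relIndex B', fun w hw => ?_⟩
      obtain ⟨h, hh⟩ := htrans w hw
      rw [hh]
      exact hConj G B' hB'n x h
    have hB'n' : B'.Normal := hB'n
    obtain ⟨m', hBad'⟩ := hRPQ G p m hp ⟨hH, hTwo, hnp⟩ B' hB'p hB'comm hconst
    have hcard : Nat.card (G ⧸ B') < n := by
      rw [← hn]
      have h1 : Nat.card G = Nat.card (G ⧸ B') * Nat.card B' :=
        Subgroup.card_eq_card_quotient_mul_card_subgroup B'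
      have h2 : 1 < Nat.card B' := B'.one_lt_card_iff_ne_bot.mpr hB'ne
      have h3 : 0 < Nat.card (G ⧸ B') := Nat.card_pos
      nlinarith
    exact ih _ hcard (G ⧸ B') rfl p m' hp hBad'
  by_cases hrt : r = t
  · -- normal `t`-subgroup
    rw [hrt] at hBp
    have hrel := hRT1a G p m t hp hH hA ht htp T y x hyT hyc hidx htrans B hBn hBp hBc
    have hrelZ := hRT1b G p m t hp hH hA ht htp B hBn hBp hrel
    obtain ⟨c, hcB, hcx, hcomm⟩ :=
      hRTAbs G t s ht hs hst B x hBn hBp hxo hrelZ (hrel x hxNC)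
    have hco : ∃ k, orderOf c = t ^ k := by
      have hft : Fact t.Prime := ⟨ht⟩
      obtain ⟨k, hk⟩ := (IsPGroup.iff_orderOf.mp hBp) ⟨c, hcB⟩
      exact ⟨k, by rw [← hk, Subgroup.orderOf_mk]⟩
    have hcc : c ∉ Subgroup.center G := by
      intro hc
      apply hcx
      rw [Subgroup.mem_centralizer_iff]
      intro h hh
      rw [Set.mem_singleton_iff] at hh
      rw [hh]
      exact Subgroup.mem_center_iff.mp hc x
    have hcNC : NC p c := ⟨core_preg_of_pow hp ht htp hco, hcc⟩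
    have hdNC : NC p (x * c * x⁻¹) := by
      refine ⟨?_, ?_⟩
      · unfold PReg
        rw [core_orderOf_conj]
        exact hcNC.1
      · intro hd
        apply hcc
        have h := (inferInstance : (Subgroup.center G).Normal).conj_mem _ hd x⁻¹
        simpa [mul_assoc] using h
    have hdmem : x * c * x⁻¹ ∈ Cen c := by
      rw [Subgroup.mem_centralizer_iff]
      intro h hh
      rw [Set.mem_singleton_iff] at hh
      rw [hh]
      exact hcomm.symm
    have hceq : Cen c = Cen (x * c * x⁻¹) := core_cen_eq hA hcNC hdNC hdmem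
    have hxnorm : x ∈ Subgroup.normalizer ((Cen c : Subgroup G) : Set G) := by
      rw [Subgroup.mem_normalizer_iff]
      intro h
      rw [show (x * h * x⁻¹ ∈ Cen c) ↔ (x * h * x⁻¹ ∈ Cen (x * c * x⁻¹)) from by rw [← hceq]]
      simp only [Subgroup.mem_centralizer_iff, Set.mem_singleton_iff, forall_eq]
      constructor
      · intro h1
        calc x * c * x⁻¹ * (x * h * x⁻¹) = x * (c * h) * x⁻¹ := by group
          _ = x * (h * c) * x⁻¹ := by rw [h1]
          _ = x * h * x⁻¹ * (x * c * x⁻¹) := by group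
      · intro h1
        have h2 : x * (c * h) * x⁻¹ = x * (h * c) * x⁻¹ := by
          calc x * (c * h) * x⁻¹ = x * c * x⁻¹ * (x * h * x⁻¹) := by group
            _ = x * h * x⁻¹ * (x * c * x⁻¹) := h1
            _ = x * (h * c) * x⁻¹ := by group
        exact mul_left_cancel (mul_right_cancel h2)
    have hfin := hS3 G p m s hp hH hA hs hsp hsm x hxc hxo c hcNC hxnorm
    apply hcx
    rw [← hfin]
    exact Subgroup.mem_centralizer_iff.mpr (fun h hh => by
      rw [Set.mem_singleton_iff] at hh; rw [hh])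
  · -- normal `r`-subgroup, `r ∉ {p, t}`
    have hrm : ¬ r ∣ m := by
      intro h
      rw [hma] at h
      rcases (Nat.Prime.dvd_mul hr).mp h with h | h
      · exact hrp ((Nat.prime_dvd_prime_iff_eq hr hp).mp (hr.dvd_of_dvd_pow h))
      · exact hrt ((Nat.prime_dvd_prime_iff_eq hr ht).mp h)
    exact hBc (hRS G p m t r hp hH ht htp htm hr hrp hrm B hBn hBp)

theorem core_hyp_of {G : Type u} [Group G] {p m : ℕ} (h : Helper8.TP.Hyp G p m) : Hyp G p m := by
  obtain ⟨h1, ⟨x, hx1, hx2⟩, h3⟩ := h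
  exact ⟨h1, ⟨x, hx1, hx2⟩, fun x hx => h3 x hx.1 hx.2⟩

theorem core_hyp_to {G : Type u} [Group G] {p m : ℕ} (h : Hyp G p m) : Helper8.TP.Hyp G p m := by
  obtain ⟨h1, ⟨x, hx1, hx2⟩, h3⟩ := h
  exact ⟨h1, ⟨x, hx1, hx2⟩, fun x hx1 hx2 => h3 x ⟨hx1, hx2⟩⟩

theorem core_two_of {G : Type u} [Group G] {p : ℕ} (h : Helper8.TP.CaseII G p) :
    TwoPrimes G p := by
  obtain ⟨q, r, ⟨hq, hqp, x, hxo, hxc⟩, ⟨hr, hrp, z, hzo, hzc⟩, hqr⟩ := h
  exact ⟨q, r, x, z, hq, hr, hqp, hrp, hqr, hxc, hzc, hxo, hzo⟩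

theorem core_two_to {G : Type u} [Group G] {p : ℕ} (h : TwoPrimes G p) :
    Helper8.TP.CaseII G p := by
  obtain ⟨q, r, x, z, hq, hr, hqp, hrp, hqr, hxc, hzc, hxo, hzo⟩ := h
  exact ⟨q, r, ⟨hq, hqp, x, hxo, hxc⟩, ⟨hr, hrp, z, hzo, hzc⟩, hqr⟩

theorem core_a1 (G : Type u) [Group G] [Finite G] (p m : ℕ) (hp : p.Prime) (hB : Bad G p m) :
    A1Prop G p := by
  intro g w hg hw hwg
  exact Helper8.TP.a1 G p m hp (core_hyp_to hB.1) (core_two_to hB.2.1) g w hg.1 hg.2 hw hwg

theorem core_back (hY2 : Y2Stmt.{u}) (hIdx : IdxStmt.{u}) (hFT : FTStmt.{u})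
    (hN4 : N4Stmt.{u}) (hTrans : TransStmt.{u}) (hS3 : S3Stmt.{u}) (hKaz : KazStmt.{u})
    (hSolvA : SolvAStmt.{u}) (hSolvB : SolvBStmt.{u}) (hRS : RSStmt.{u}) (hConj : ConjStmt.{u})
    (hRT1a : RT1aStmt.{u}) (hRT1b : RT1bStmt.{u}) (hRTAbs : RTAbsStmt.{u}) (hRPQ : RPQStmt.{u})
    (hZB : ZBStmt.{u}) : Helper8.TP.BackStmt.{u} := by
  intro G _ _ p m hp hH hC
  by_contra hnp
  exact core_bad_false hY2 hIdx hFT hN4 hTrans hS3 hKaz hSolvA hSolvB hRS hConj hRT1a hRT1b
    hRTAbs hRPQ hZB core_a1 (Nat.card G) G rfl p m hp ⟨core_hyp_of hH, core_two_of hC, hnp⟩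

end Cfsg.Agent.Lib.Helper4.TP
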